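/-
Group theory around "no element of order 2p" and counting pairs of conjugates of an involution.
Main results:
* `isConj_of_odd_orderOf_mul`: two involutions with product of odd order are conjugate.
* `exists_involution_inverting_sylow_centralizer`, `eq_sylow_and_inverted_of_inverted`:
  an element whose p-part of centralizer is inside P and is inverted gives P abelian, inverted.
* `dvd_pair_count`: divisibility of the number of pairs `(g, g*y)`.
-/
import Cfsg.Agent.EqLemmas

set_option autoImplicit false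

namespace Cfsg.Agent.ClassCount

variable {G : Type*} [Group G]

/-- Two involutions whose product has odd order are conjugate by a power of the product. -/
theorem exists_conj_eq_of_odd_orderOf_mul {s t : G} (hs : s * s = 1) (ht : t * t = 1)
    (ho : Odd (orderOf (s * t))) :
    ∃ c ∈ Subgroup.zpowers (s * t), c * s * c⁻¹ = t := by
  obtain ⟨k, hk⟩ := ho
  set u := s * t with hu
  refine ⟨u ^ k, pow_mem (Subgroup.mem_zpowers u) k, ?_⟩
  have hsinv : s⁻¹ = s := inv_eq_of_mul_eq_one_left hs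
  have htinv : t⁻¹ = t := inv_eq_of_mul_eq_one_left ht
  have h1 : s * u * s⁻¹ = u⁻¹ := by
    rw [hu, mul_inv_rev, hsinv, htinv]
    calc s * (s * t) * s = (s * s) * (t * s) := by group
      _ = t * s := by rw [hs, one_mul]
  have h2 : s * (u ^ k)⁻¹ = u ^ k * s := by
    have : s * u ^ k * s⁻¹ = (u ^ k)⁻¹ := by rw [← inv_pow, ← h1, conj_pow]
    have h3 : s * (u ^ k)⁻¹ * s⁻¹ = u ^ k := by
      have := congrArg (·⁻¹) this
      simpa [mul_inv_rev, mul_assoc] using this
    calc s * (u ^ k)⁻¹ = s * (u ^ k)⁻¹ * s⁻¹ * s := by group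
      _ = u ^ k * s := by rw [h3]
  calc u ^ k * s * (u ^ k)⁻¹ = u ^ k * (s * (u ^ k)⁻¹) := mul_assoc ..
    _ = u ^ (2 * k) * s := by rw [h2, ← mul_assoc, ← pow_add, two_mul]
    _ = u⁻¹ * s := by
      congr 1
      apply eq_inv_of_mul_eq_one_left
      rw [← pow_succ, ← hk, pow_orderOf_eq_one]
    _ = t := by rw [hu, mul_inv_rev, hsinv, htinv, mul_assoc, hs, mul_one]

theorem isConj_of_odd_orderOf_mul {s t : G} (hs : s * s = 1) (ht : t * t = 1)
    (ho : Odd (orderOf (s * t))) : IsConj s t := by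
  obtain ⟨c, -, hc⟩ := exists_conj_eq_of_odd_orderOf_mul hs ht ho
  exact isConj_iff.mpr ⟨c, hc⟩

theorem mul_self_eq_one_of_orderOf {s : G} (hs : orderOf s = 2) : s * s = 1 := by
  rw [← sq, ← hs, pow_orderOf_eq_one]

/-- `s` and `t` invert `y`: their product centralizes `y`. -/
theorem mul_mem_centralizer_of_inverts {s t y : G} (hs : s * y * s⁻¹ = y⁻¹)
    (ht : t * y * t⁻¹ = y⁻¹) : s * t ∈ Subgroup.centralizer ({y} : Set G) := by
  rw [Subgroup.mem_centralizer_singleton_iff]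
  have h1 : s * t * y * (s * t)⁻¹ = y := by
    calc s * t * y * (s * t)⁻¹ = s * (t * y * t⁻¹) * s⁻¹ := by group
      _ = s * y⁻¹ * s⁻¹ := by rw [ht]
      _ = (s * y * s⁻¹)⁻¹ := by group
      _ = y := by rw [hs, inv_inv]
  calc s * t * y = s * t * y * (s * t)⁻¹ * (s * t) := by group
    _ = y * (s * t) := by rw [h1]

theorem conj_mem_centralizer_iff {g y c : G} (h : g * y * g⁻¹ = y ∨ g * y * g⁻¹ = y⁻¹) :
    g * c * g⁻¹ ∈ Subgroup.centralizer ({y} : Set G) ↔
      c ∈ Subgroup.centralizer ({y} : Set G) := by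
  simp only [Subgroup.mem_centralizer_singleton_iff, ← commute_iff_eq]
  rcases h with h | h
  · conv_lhs => rw [← h]
    exact Commute.conj_iff g
  · rw [← Commute.inv_right_iff, ← h]
    exact Commute.conj_iff g

theorem odd_centralizer_of_no_two_p [Finite G] {p : ℕ} [Fact p.Prime]
    (hp2 : p ≠ 2) (h2p : ∀ g : G, orderOf g ≠ 2 * p) {g : G} (hg1 : g ≠ 1)
    (hg : ∃ k : ℕ, orderOf g = p ^ k) :
    Odd (Nat.card ↥(Subgroup.centralizer ({g} : Set G))) := by
  obtain ⟨k, hk⟩ := hg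
  by_contra h
  rw [Nat.not_odd_iff_even, even_iff_two_dvd] at h
  obtain ⟨⟨s, hs⟩, ho⟩ := exists_prime_orderOf_dvd_card' 2 h
  rw [Subgroup.orderOf_mk] at ho
  rw [Subgroup.mem_centralizer_singleton_iff] at hs
  have hk0 : k ≠ 0 := by
    rintro rfl
    exact hg1 (orderOf_eq_one_iff.mp (by simpa using hk))
  have ho' : orderOf (g ^ (p ^ (k - 1))) = p := by
    rw [orderOf_pow' g (pow_ne_zero _ (Fact.out : p.Prime).ne_zero), hk,
      Nat.gcd_eq_right (pow_dvd_pow _ (Nat.sub_le k 1)), Nat.pow_div (Nat.sub_le k 1) (Fact.out : p.Prime).pos]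
    rw [show k - (k - 1) = 1 by omega, pow_one]
  have hc : Commute s (g ^ (p ^ (k - 1))) := Commute.pow_right hs _
  refine h2p (s * g ^ (p ^ (k - 1))) ?_
  rw [hc.orderOf_mul_eq_mul_orderOf_of_coprime, ho, ho']
  rw [ho, ho']
  exact (Nat.coprime_primes Nat.prime_two Fact.out).mpr (Ne.symm hp2)

theorem eq_one_of_commute_involution [Finite G] {p : ℕ} [Fact p.Prime]
    (hodd : ∀ g : G, g ≠ 1 → (∃ k : ℕ, orderOf g = p ^ k) →
      Odd (Nat.card ↥(Subgroup.centralizer ({g} : Set G))))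
    {s z : G} (hs : orderOf s = 2) (hz : ∃ k : ℕ, orderOf z = p ^ k) (hc : Commute s z) : z = 1 := by
  by_contra h1
  have hmem : s ∈ Subgroup.centralizer ({z} : Set G) := Subgroup.mem_centralizer_singleton_iff.mpr hc
  have := Subgroup.orderOf_dvd_natCard _ hmem
  rw [hs] at this
  exact (Nat.not_even_iff_odd.mpr (hodd z h1 hz)) (even_iff_two_dvd.mpr this)

/-- Core: if `y` in the Sylow subgroup `P` is inverted by an involution `g` and `C_P(y)` is a full
Sylow subgroup of `C(y)`, then `P` is inverted by a conjugate of `g`. -/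
theorem sylow_inverted_of_inverted [Finite G] {p : ℕ} [Fact p.Prime]
    (hodd : ∀ g : G, g ≠ 1 → (∃ k : ℕ, orderOf g = p ^ k) →
      Odd (Nat.card ↥(Subgroup.centralizer ({g} : Set G))))
    (P : Sylow p G) {g y : G} (hg : orderOf g = 2) (hy : y ∈ (P : Subgroup G)) (hy1 : y ≠ 1)
    (hinv : g * y * g⁻¹ = y⁻¹)
    (hfull : ¬ p ∣ ((P : Subgroup G) ⊓ Subgroup.centralizer ({y} : Set G)).relIndex
      (Subgroup.centralizer ({y} : Set G))) :
    (∃ s : G, orderOf s = 2 ∧ IsConj g s ∧ ∀ z ∈ (P : Subgroup G), s * z * s⁻¹ = z⁻¹) ∧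
      ∀ c ∈ Subgroup.centralizer ({y} : Set G), Odd (orderOf c) := by
  classical
  set C := Subgroup.centralizer ({y} : Set G) with hC
  set Q := (P : Subgroup G) ⊓ C with hQdef
  have hQp : IsPGroup p ↥Q := P.isPGroup'.to_le inf_le_left
  have hpG : ∀ z ∈ (P : Subgroup G), ∃ k : ℕ, orderOf z = p ^ k := by
    intro z hz
    obtain ⟨k, hk⟩ := IsPGroup.iff_orderOf.mp P.isPGroup' ⟨z, hz⟩
    exact ⟨k, by rwa [Subgroup.orderOf_mk] at hk⟩
  have hCodd : ∀ c ∈ C, Odd (orderOf c) := fun c hc =>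
    (hodd y hy1 (hpG y hy)).of_dvd_nat (Subgroup.orderOf_dvd_natCard _ hc)
  have hyQ : y ∈ Q := ⟨hy, Subgroup.mem_centralizer_singleton_iff.mpr rfl⟩
  -- the Sylow subgroup of C
  let S : Sylow p ↥C := IsPGroup.toSylow (P := Q.subgroupOf C)
    (hQp.comap_subtype) hfull
  have hS : ∀ x : ↥C, x ∈ S ↔ (x : G) ∈ Q := fun x => Iff.rfl
  have hgC : ∀ c, g * c * g⁻¹ ∈ C ↔ c ∈ C := fun c => conj_mem_centralizer_iff (Or.inr hinv)
  -- conjugate Sylow
  let e : ↥C ≃* ↥C :=
    { toFun := fun c => ⟨g * c * g⁻¹, (hgC _).mpr c.2⟩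
      invFun := fun c => ⟨g⁻¹ * c * g, by
        apply (hgC _).mp
        simpa [mul_assoc] using c.2⟩
      left_inv := fun c => by ext; simp [mul_assoc]
      right_inv := fun c => by ext; simp [mul_assoc]
      map_mul' := fun a b => by ext; simp [mul_assoc] }
  let S' : Sylow p ↥C := S.comapOfInjective e.symm.toMonoidHom e.symm.injective
    (by rw [MonoidHom.range_eq_top.mpr e.symm.surjective]; exact le_top)
  obtain ⟨c, hc⟩ := MulAction.exists_smul_eq (↥C) S S'
  -- the coset representative normalising Q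
  set h : G := (c : G)⁻¹ * g with hhdef
  have hhQ : ∀ z ∈ Q, h * z * h⁻¹ ∈ Q := by
    intro z hz
    have hzC : z ∈ C := hz.2
    have h1 : (⟨g * z * g⁻¹, (hgC _).mpr hzC⟩ : ↥C) ∈ S' := by
      show e.symm.toMonoidHom (e ⟨z, hzC⟩) ∈ S
      simpa [hS] using hz
    rw [← hc] at h1
    rw [← SetLike.mem_coe, Sylow.coe_smul, Set.mem_smul_set_iff_inv_smul_mem] at h1
    have h2 : (c : G)⁻¹ * (g * z * g⁻¹) * (c : G) ∈ Q := by
      simpa [hS, MulAut.smul_def, SetLike.mem_coe] using h1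
    convert h2 using 1
    rw [hhdef]; group
  have hhy : h * y * h⁻¹ = y⁻¹ := by
    have hcy : (c : G)⁻¹ * y⁻¹ * (c : G) = y⁻¹ := by
      have := Subgroup.mem_centralizer_singleton_iff.mp c.2
      have h2 : Commute (c : G) y⁻¹ := (Commute.inv_right this)
      rw [mul_assoc, ← h2.eq]; simp
    calc h * y * h⁻¹ = (c : G)⁻¹ * (g * y * g⁻¹) * (c : G) := by rw [hhdef]; group
      _ = y⁻¹ := by rw [hinv, hcy]
  -- odd power of h is an involution s
  have hh2 : h ^ 2 ∈ C := by
    rw [sq]; exact mul_mem_centralizer_of_inverts hhy hhy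
  have hm : Odd (orderOf (h ^ 2)) := hCodd _ hh2
  obtain ⟨k, hk⟩ := hm
  set s := h ^ (2 * k + 1) with hsdef
  have hs2 : s * s = 1 := by
    rw [hsdef, ← pow_add, ← two_mul, pow_mul, ← hk, pow_orderOf_eq_one]
  have hsy : s * y * s⁻¹ = y⁻¹ := by
    have hcomm : Commute ((h ^ 2) ^ k) y :=
      (Subgroup.mem_centralizer_singleton_iff.mp (pow_mem hh2 k))
    rw [hsdef, pow_succ', pow_mul]
    calc h * (h ^ 2) ^ k * y * (h * (h ^ 2) ^ k)⁻¹
        = h * ((h ^ 2) ^ k * y * ((h ^ 2) ^ k)⁻¹) * h⁻¹ := by group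
      _ = y⁻¹ := by rw [hcomm.eq, mul_inv_cancel_right, hhy]
  have hy2 : y⁻¹ ≠ y := by
    intro he
    apply hy1
    refine eq_one_of_commute_involution hodd hg (hpG y hy) ?_
    rw [he] at hinv
    exact mul_inv_eq_iff_eq_mul.mp hinv
  have hs1 : s ≠ 1 := by
    intro he; rw [he] at hsy; simp at hsy; exact hy2 hsy.symm
  have hso : orderOf s = 2 := orderOf_eq_prime (by rw [sq, hs2]) hs1
  have hgs : IsConj g s := by
    refine isConj_of_odd_orderOf_mul (mul_self_eq_one_of_orderOf hg) hs2 (hCodd _ ?_)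
    exact mul_mem_centralizer_of_inverts hinv hsy
  have hsQ : ∀ z ∈ Q, s * z * s⁻¹ ∈ Q := by
    have : ∀ (j : ℕ), ∀ z ∈ Q, h ^ j * z * (h ^ j)⁻¹ ∈ Q := by
      intro j
      induction j with
      | zero => simp
      | succ j ih =>
        intro z hz
        have := hhQ _ (ih z hz)
        convert this using 1
        rw [pow_succ']; group
    exact fun z hz => this _ z hz
  let φ : ↥Q →* ↥Q :=
    { toFun := fun z => ⟨s * z * s⁻¹, hsQ _ z.2⟩
      map_one' := by ext; simp
      map_mul' := fun a b => by ext; simp [mul_assoc] }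
  have hφ2 : Function.Involutive φ := by
    intro z; ext
    show s * (s * z * s⁻¹) * s⁻¹ = (z : G)
    calc s * (s * z * s⁻¹) * s⁻¹ = (s * s) * z * (s * s)⁻¹ := by group
      _ = z := by rw [hs2]; simp
  have hφf : MonoidHom.FixedPointFree φ := by
    intro z hz
    have hz' : s * (z : G) * s⁻¹ = z := congrArg Subtype.val hz
    exact Subtype.ext (eq_one_of_commute_involution hodd hso (hpG _ z.2.1)
      (mul_inv_eq_iff_eq_mul.mp hz'))
  have hQinv : ∀ z ∈ Q, s * z * s⁻¹ = z⁻¹ := fun z hz =>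
    congrArg Subtype.val (congrFun (hφf.coe_eq_inv_of_involutive hφ2) ⟨z, hz⟩)
  -- Q = P
  have hQP : (P : Subgroup G) ≤ Q := by
    by_contra hne
    have : Group.IsNilpotent ↥(P : Subgroup G) := P.isPGroup'.isNilpotent
    have hlt : Q.subgroupOf (P : Subgroup G) < ⊤ := by
      rw [lt_top_iff_ne_top, Ne, Subgroup.subgroupOf_eq_top]; exact hne
    obtain ⟨n, hnN, hnQ⟩ := SetLike.exists_of_lt (Group.normalizerCondition_of_isNilpotent _ hlt)
    rw [Subgroup.mem_normalizer_iff] at hnN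
    have hn : ∀ z, z ∈ Q → (n : G) * z * (n : G)⁻¹ ∈ Q := fun z hz =>
      (hnN ⟨z, hz.1⟩).mp hz
    have hnQ' : (n : G) ∉ Q := hnQ
    have hnni : ∀ z, z ∈ Q → (n : G)⁻¹ * z * (n : G) ∈ Q := fun z hz =>
      (hnN ⟨(n : G)⁻¹ * z * n, mul_mem (mul_mem (inv_mem n.2) hz.1) n.2⟩).mpr (by
        show (n : G) * ((n : G)⁻¹ * z * n) * (n : G)⁻¹ ∈ Q
        simpa [mul_assoc] using hz)
    set t := (n : G) * s * (n : G)⁻¹ with htdef
    have htinv : ∀ z ∈ Q, t * z * t⁻¹ = z⁻¹ := by
      intro z hz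
      calc t * z * t⁻¹ = (n : G) * (s * ((n : G)⁻¹ * z * n) * s⁻¹) * (n : G)⁻¹ := by
            rw [htdef]; group
        _ = z⁻¹ := by rw [hQinv _ (hnni z hz)]; group
    have ht2 : t * t = 1 := by
      rw [htdef, show ∀ a b : G, a * b * a⁻¹ * (a * b * a⁻¹) = a * (b * b) * a⁻¹ from
        fun a b => by group, hs2]; simp
    have hstQ : ∀ z ∈ Q, s * t ∈ Subgroup.centralizer ({z} : Set G) := fun z hz =>
      mul_mem_centralizer_of_inverts (hQinv z hz) (htinv z hz)
    obtain ⟨d, hdmem, hd⟩ := exists_conj_eq_of_odd_orderOf_mul hs2 ht2 (hCodd _ (hstQ y hyQ))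
    have hdQ : ∀ z ∈ Q, Commute d z := fun z hz =>
      Subgroup.mem_centralizer_singleton_iff.mp
        ((Subgroup.zpowers_le.mpr (hstQ z hz)) hdmem)
    set n' := d⁻¹ * (n : G) with hn'
    have hn's : Commute s n' := by
      have : n' * s * n'⁻¹ = s := by
        rw [hn', show d⁻¹ * (n : G) * s * (d⁻¹ * (n : G))⁻¹ = d⁻¹ * t * d by rw [htdef]; group,
          ← hd]
        group
      exact (mul_inv_eq_iff_eq_mul.mp this).symm
    -- n' has order prime to p
    have hcop : ¬ p ∣ orderOf n' := by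
      intro hdvd
      set w := n' ^ (orderOf n' / p) with hw
      have hwo : orderOf w = p := orderOf_pow_orderOf_div (orderOf_pos n').ne' hdvd
      have : w = 1 := eq_one_of_commute_involution hodd hso ⟨1, by rw [hwo, pow_one]⟩
        (hn's.pow_right _)
      rw [this, orderOf_one] at hwo
      exact (Fact.out : p.Prime).one_lt.ne hwo
    have hact : ∀ (j : ℕ), ∀ z ∈ Q,
        n' ^ j * z * (n' ^ j)⁻¹ = (n : G) ^ j * z * ((n : G) ^ j)⁻¹ ∧
          (n : G) ^ j * z * ((n : G) ^ j)⁻¹ ∈ Q := by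
      intro j
      induction j with
      | zero => simp
      | succ j ih =>
        intro z hz
        obtain ⟨h1, h2⟩ := ih z hz
        have hmem : (n : G) ^ (j + 1) * z * ((n : G) ^ (j + 1))⁻¹ ∈ Q := by
          convert hn _ h2 using 1
          rw [pow_succ']; group
        refine ⟨?_, hmem⟩
        calc n' ^ (j + 1) * z * (n' ^ (j + 1))⁻¹ = n' * (n' ^ j * z * (n' ^ j)⁻¹) * n'⁻¹ := by
              rw [pow_succ']; group
          _ = d⁻¹ * ((n : G) ^ (j + 1) * z * ((n : G) ^ (j + 1))⁻¹) * d := by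
              rw [h1, hn', pow_succ']; group
          _ = (n : G) ^ (j + 1) * z * ((n : G) ^ (j + 1))⁻¹ := by
              rw [mul_assoc, ← (hdQ _ hmem).eq]; group
    have hnk : (n : G) ^ orderOf n' ∈ Q := by
      refine ⟨pow_mem n.2 _, Subgroup.mem_centralizer_singleton_iff.mpr ?_⟩
      have := (hact (orderOf n') y hyQ).1
      rw [pow_orderOf_eq_one] at this
      simp only [one_mul, inv_one, mul_one] at this
      exact mul_inv_eq_iff_eq_mul.mp this.symm
    obtain ⟨a, ha⟩ := hpG _ n.2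
    have hco : Nat.Coprime (orderOf n') (orderOf (n : G)) := by
      rw [ha]; exact (Nat.Coprime.pow_left a ((Fact.out : p.Prime).coprime_iff_not_dvd.mpr hcop)).symm
    obtain ⟨m, hm⟩ := exists_pow_eq_self_of_coprime hco
    exact hnQ' (hm ▸ pow_mem hnk m)
  exact ⟨⟨s, hso, hgs, fun z hz => hQinv z (hQP hz)⟩, hCodd⟩

end Cfsg.Agent.ClassCount
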