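/-
Counting pairs of conjugates with product in a p-subgroup.
Main results: `pairCount`, `pairCount_eq_of_trivial`, `dvd_pairCount_sub`,
`exists_inverted_of_dvd_pairCount`.
-/
import Cfsg.Agent.Lib.ClassCount.Inversion

set_option autoImplicit false

namespace Cfsg.Agent.ClassCount

variable {G : Type*} [Group G] [Finite G]

/-- Number of pairs `(g, h)` with `g ~ x`, `h ~ x'` and `g * h ∈ P`. -/
noncomputable def pairCount (P : Subgroup G) (x x' : G) : ℕ :=
  Nat.card {q : G × G // IsConj x q.1 ∧ IsConj x' q.2 ∧ q.1 * q.2 ∈ P}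

/-- The pairs with product `y`. -/
noncomputable def fibreCount (x x' y : G) : ℕ :=
  Nat.card {g : G // IsConj x g ∧ IsConj x' (g⁻¹ * y)}

theorem pairCount_eq_of_trivial (P : Subgroup G) (x : G)
    (h : ∀ g k : G, IsConj x g → IsConj x⁻¹ k → g * k ∈ P → g * k = 1) :
    pairCount P x x⁻¹ = Nat.card {g : G // IsConj x g} := by
  refine Nat.card_congr
    { toFun := fun q => ⟨q.1.1, q.2.1⟩
      invFun := fun g => ⟨(g.1, g.1⁻¹), g.2, ?_, ?_⟩
      left_inv := ?_
      right_inv := fun g => rfl }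
  · obtain ⟨c, hc⟩ := isConj_iff.mp g.2
    exact isConj_iff.mpr ⟨c, by rw [← conj_inv, hc]⟩
  · simp
  · rintro ⟨⟨g, k⟩, hg, hk, hgk⟩
    have := h g k hg hk hgk
    simp only [Subtype.mk.injEq, Prod.mk.injEq, true_and]
    exact (eq_inv_of_mul_eq_one_right this).symm

theorem pairCount_eq_sum_fibre (P : Subgroup G) [Fintype ↥P] (x x' : G) :
    pairCount P x x' = ∑ y : ↥P, fibreCount x x' y := by
  classical
  unfold pairCount fibreCount
  rw [← Nat.card_sigma]
  exact Nat.card_congr
    { toFun := fun q => ⟨⟨q.1.1 * q.1.2, q.2.2.2⟩, q.1.1, q.2.1, by simpa using q.2.2.1⟩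
      invFun := fun s => ⟨(s.2.1, s.2.1⁻¹ * s.1), s.2.2.1, s.2.2.2, by simp⟩
      left_inv := fun q => by ext <;> simp
      right_inv := fun s => by
        rcases s with ⟨⟨y, hy⟩, ⟨g, hg⟩⟩
        refine Sigma.subtype_ext (Subtype.ext ?_) rfl
        simp }

/-- A subgroup centralizing `y` and meeting no centralizer of the counted elements has order
dividing the count. -/
theorem card_dvd_fibreCount {x x' y : G} (S : Subgroup G)
    (hSy : ∀ c ∈ S, Commute c y)
    (hfree : ∀ g, IsConj x g → ∀ c ∈ S, Commute c g → c = 1) :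
    Nat.card ↥S ∣ fibreCount x x' y := by
  classical
  let α := {g : G // IsConj x g ∧ IsConj x' (g⁻¹ * y)}
  have hmem : ∀ (c : ↥S) (g : α), IsConj x ((c : G) * g.1 * (c : G)⁻¹) ∧
      IsConj x' (((c : G) * g.1 * (c : G)⁻¹)⁻¹ * y) := by
    intro c g
    refine ⟨g.2.1.trans (isConj_iff.mpr ⟨c, rfl⟩), g.2.2.trans (isConj_iff.mpr ⟨c, ?_⟩)⟩
    have hc := (hSy c c.2).eq
    calc (c : G) * (g.1⁻¹ * y) * (c : G)⁻¹ = (c : G) * g.1⁻¹ * (y * (c : G)⁻¹) := by group
      _ = (c : G) * g.1⁻¹ * ((c : G)⁻¹ * y) := by rw [((hSy c c.2).inv_left).eq]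
      _ = ((c : G) * g.1 * (c : G)⁻¹)⁻¹ * y := by group
  let act : MulAction ↥S α :=
    { smul := fun c g => ⟨(c : G) * g.1 * (c : G)⁻¹, hmem c g⟩
      one_smul := fun g => Subtype.ext (show (1 : G) * g.1 * (1 : G)⁻¹ = g.1 by simp)
      mul_smul := fun a b g => Subtype.ext (show ((a : G) * b) * g.1 * ((a : G) * b)⁻¹ =
        (a : G) * ((b : G) * g.1 * (b : G)⁻¹) * (a : G)⁻¹ by group) }
  have hstab : ∀ g : α, MulAction.stabilizer ↥S g = ⊥ := by
    intro g
    refine (Subgroup.eq_bot_iff_forall _).mpr fun c hc => ?_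
    have : (c : G) * g.1 * (c : G)⁻¹ = g.1 := congrArg Subtype.val hc
    exact Subtype.ext (hfree g.1 g.2.1 c c.2 (mul_inv_eq_iff_eq_mul.mp this))
  show Nat.card ↥S ∣ Nat.card α
  rw [Nat.card_congr (MulAction.selfEquivOrbitsQuotientProd hstab), Nat.card_prod]
  exact Dvd.intro_left _ rfl

theorem fibreCount_conj (x x' y c : G) : fibreCount x x' (c * y * c⁻¹) = fibreCount x x' y := by
  refine (Nat.card_congr (Equiv.subtypeEquiv (MulAut.conj c).toEquiv ?_)).symm
  intro g
  simp only [MulEquiv.toEquiv_eq_coe, EquivLike.coe_coe, MulAut.conj_apply]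
  have e1 : IsConj g (c * g * c⁻¹) := isConj_iff.mpr ⟨c, rfl⟩
  have e2 : IsConj (g⁻¹ * y) ((c * g * c⁻¹)⁻¹ * (c * y * c⁻¹)) := isConj_iff.mpr ⟨c, by group⟩
  exact ⟨fun h => ⟨h.1.trans e1, h.2.trans e2⟩, fun h => ⟨h.1.trans e1.symm, h.2.trans e2.symm⟩⟩

/-- If a conjugation-invariant function on a finite group is divisible at every element by `m`
times the order of the centralizer, its sum is divisible by `m` times the group order. -/
theorem dvd_sum_of_conj_invariant {P : Type*} [Group P] [Fintype P] (m : ℕ) (f : P → ℕ)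
    (hf : ∀ c y : P, f (c * y * c⁻¹) = f y)
    (hdvd : ∀ y, m * Nat.card ↥(Subgroup.centralizer ({y} : Set P)) ∣ f y) :
    m * Nat.card P ∣ ∑ y, f y := by
  classical
  rw [← Finset.sum_fiberwise Finset.univ (fun y : P => ConjClasses.mk y) f]
  refine Finset.dvd_sum fun C _ => ?_
  obtain ⟨y, rfl⟩ := ConjClasses.exists_rep C
  rw [Finset.sum_const_nat (m := f y)]
  · obtain ⟨k, hk⟩ := hdvd y
    rw [hk]
    refine ⟨k, ?_⟩
    have hcard : (Finset.univ.filter fun z : P => ConjClasses.mk z = ConjClasses.mk y).card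
        * Nat.card ↥(Subgroup.centralizer ({y} : Set P)) = Nat.card P := by
      rw [← Fintype.card_subtype, ← Nat.card_eq_fintype_card]
      have h1 := MulAction.card_orbit_mul_card_stabilizer_eq_card_group (ConjAct P) (b := y)
      rw [← Nat.card_eq_fintype_card, ← Nat.card_eq_fintype_card, ← Nat.card_eq_fintype_card,
        ConjAct.orbit_eq_carrier_conjClasses] at h1
      rw [show Nat.card P = Nat.card (ConjAct P) from rfl, ← h1]
      congr 1
      · exact Nat.card_congr (Equiv.subtypeEquivRight fun z => ConjClasses.mem_carrier_iff_mk_eq.symm)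
      · rw [ConjAct.stabilizer_eq_centralizer]
        rfl
    rw [← hcard]; ring
  · intro z hz
    rw [Finset.mem_filter] at hz
    obtain ⟨c, hc⟩ := isConj_iff.mp (ConjClasses.mk_eq_mk_iff_isConj.mp hz.2.symm)
    rw [← hc, hf]

/-- Congruence: if the pair count of an involution class is divisible by `p * |P|`, some element
of `P` is inverted by a conjugate and has full centralizer in `P`. -/
theorem exists_inverted_of_dvd_pairCount {p : ℕ} [hp : Fact p.Prime] (P : Sylow p G) {x : G}
    (hx : x * x = 1)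
    (hfree : ∀ g z : G, IsConj x g → z ∈ (P : Subgroup G) ∨ (∃ k, orderOf z = p ^ k) →
      Commute z g → z = 1)
    (hdiv : p * Nat.card ↥(P : Subgroup G) ∣ pairCount (P : Subgroup G) x x)
    (hK : ¬ p * Nat.card ↥(P : Subgroup G) ∣ Nat.card {g : G // IsConj x g}) :
    ∃ g y : G, IsConj x g ∧ y ∈ (P : Subgroup G) ∧ y ≠ 1 ∧ g * y * g⁻¹ = y⁻¹ ∧
      ¬ p ∣ ((P : Subgroup G) ⊓ Subgroup.centralizer ({y} : Set G)).relIndex
        (Subgroup.centralizer ({y} : Set G)) := by
  classical
  have := Fintype.ofFinite ↥(P : Subgroup G)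
  by_contra hne
  push Not at hne
  apply hK
  rw [pairCount_eq_sum_fibre, Fintype.sum_eq_add_sum_compl (1 : ↥(P : Subgroup G))] at hdiv
  have h1 : fibreCount x x ((1 : ↥(P : Subgroup G)) : G) = Nat.card {g : G // IsConj x g} := by
    refine Nat.card_congr (Equiv.subtypeEquivRight fun g => ?_)
    simp only [Subgroup.coe_one, mul_one, and_iff_left_iff_imp]
    intro hg
    obtain ⟨c, hc⟩ := isConj_iff.mp hg
    refine isConj_iff.mpr ⟨c, ?_⟩
    rw [← hc, conj_inv, inv_eq_of_mul_eq_one_left hx]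
  rw [h1] at hdiv
  refine (Nat.dvd_add_left ?_).mp hdiv
  have h2 : ∑ y ∈ ({1}ᶜ : Finset ↥(P : Subgroup G)), fibreCount x x (y : G) =
      ∑ y : ↥(P : Subgroup G), if y = 1 then 0 else fibreCount x x (y : G) := by
    rw [Finset.compl_singleton, ← Finset.add_sum_erase _ _ (Finset.mem_univ (1 : ↥(P : Subgroup G))),
      if_pos rfl, zero_add]
    exact Finset.sum_congr rfl fun y hy => (if_neg (Finset.ne_of_mem_erase hy)).symm
  rw [h2]
  refine dvd_sum_of_conj_invariant p _ ?_ ?_
  · intro c y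
    by_cases hy : y = 1
    · simp [hy]
    · rw [if_neg hy, if_neg (by simpa [mul_inv_eq_one] using hy)]
      push_cast
      exact fibreCount_conj x x (y : G) (c : G)
  · intro y
    by_cases hy : y = 1
    · simp [hy]
    rw [if_neg hy]
    set C := Subgroup.centralizer ({(y : G)} : Set G) with hC
    set Q := (P : Subgroup G) ⊓ C
    have hcQ : Nat.card ↥(Subgroup.centralizer ({y} : Set ↥(P : Subgroup G))) = Nat.card ↥Q :=
      Nat.card_congr
        { toFun := fun c => ⟨c.1, c.1.2, Subgroup.mem_centralizer_singleton_iff.mpr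
            (congrArg Subtype.val (Subgroup.mem_centralizer_singleton_iff.mp c.2))⟩
          invFun := fun c => ⟨⟨c.1, c.2.1⟩, Subgroup.mem_centralizer_singleton_iff.mpr
            (Subtype.ext (Subgroup.mem_centralizer_singleton_iff.mp c.2.2))⟩
          left_inv := fun c => rfl
          right_inv := fun c => rfl }
    rw [hcQ]
    by_cases hempty : fibreCount x x (y : G) = 0
    · simp [hempty]
    obtain ⟨g, hg, hg'⟩ := (Nat.card_ne_zero.mp hempty).1
    have hginv : g * (y : G) * g⁻¹ = (y : G)⁻¹ := by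
      obtain ⟨c, hc⟩ := isConj_iff.mp hg
      obtain ⟨d, hd⟩ := isConj_iff.mp hg'
      have e1 : g * g = 1 := by
        rw [← hc, show c * x * c⁻¹ * (c * x * c⁻¹) = c * (x * x) * c⁻¹ by group, hx]; simp
      have e2 : g⁻¹ * (y : G) * (g⁻¹ * (y : G)) = 1 := by
        rw [← hd, show d * x * d⁻¹ * (d * x * d⁻¹) = d * (x * x) * d⁻¹ by group, hx]; simp
      have e3 : g⁻¹ = g := inv_eq_of_mul_eq_one_left e1
      rw [e3] at e2 ⊢
      exact eq_inv_of_mul_eq_one_left (by simpa [mul_assoc] using e2)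
    have hp' := hne g (y : G) hg y.2 (by simpa using hy) hginv
    -- a Sylow subgroup of C of order divisible by p * |Q|
    let S : Sylow p ↥C := default
    have hS : p * Nat.card ↥Q ∣ Nat.card ↥(S : Subgroup ↥C) := by
      rw [Sylow.card_eq_multiplicity S]
      obtain ⟨j, hj⟩ := IsPGroup.iff_card.mp
        (P.isPGroup'.to_le (inf_le_left : Q ≤ (P : Subgroup G)))
      rw [hj, ← pow_succ']
      apply pow_dvd_pow
      rw [← hp.out.pow_dvd_iff_le_factorization Nat.card_pos.ne', pow_succ, ← hj,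
        ← Subgroup.relIndex_bot_left C,
        ← Subgroup.relIndex_mul_relIndex ⊥ Q C bot_le inf_le_right, Subgroup.relIndex_bot_left]
      exact mul_dvd_mul_left _ hp'
    refine hS.trans ?_
    rw [← Subgroup.card_map_of_injective (K := (S : Subgroup ↥C)) C.subtype_injective]
    refine card_dvd_fibreCount _ ?_ ?_
    · rintro c ⟨c, hc, rfl⟩
      exact Subgroup.mem_centralizer_singleton_iff.mp c.2
    · rintro g hg c ⟨c, hc, rfl⟩ hcomm
      refine hfree g _ hg (Or.inr ?_) hcomm
      obtain ⟨k, hk⟩ := IsPGroup.iff_orderOf.mp S.isPGroup' ⟨c, hc⟩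
      exact ⟨k, by simpa [Subgroup.orderOf_mk, Subgroup.orderOf_coe] using hk⟩

end Cfsg.Agent.ClassCount
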