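/-
Character formulas for counting in conjugacy classes.
Main results: `sum_class_apply_mul`, `isIntegral_omega`, `degree_dvd_card`, `card_mul_fibreCount`,
`card_mul_dvd_pairCount`.
-/
import Cfsg.Agent.Lib.Char.Orth
import Cfsg.Agent.Lib.ClassCount.Count

set_option autoImplicit false

namespace Cfsg.Agent.ClassCount

open Cfsg.Agent

variable {G : Type*} [Group G] [Finite G]

/-- A rational algebraic integer is an integer, in divisibility form. -/
theorem dvd_of_mul_isIntegral {a b : ℕ} {z : ℂ} (hz : IsIntegral ℤ z)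
    (h : (b : ℂ) = (a : ℂ) * z) : a ∣ b := by
  rcases Nat.eq_zero_or_pos a with rfl | ha
  · simp only [Nat.cast_zero, zero_mul, Nat.cast_eq_zero] at h
    simp [h]
  have hz' : z = algebraMap ℚ ℂ ((b : ℚ) / a) := by
    have : (a : ℂ) ≠ 0 := by exact_mod_cast ha.ne'
    rw [map_div₀, map_natCast, map_natCast, h]; field_simp
  rw [hz', isIntegral_algebraMap_iff (algebraMap ℚ ℂ).injective] at hz
  obtain ⟨n, hn⟩ := IsIntegrallyClosed.isIntegral_iff.mp hz
  have hn' : (n : ℚ) = (b : ℚ) / a := by simpa using hn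
  have : ((a : ℤ) : ℚ) * n = ((b : ℤ) : ℚ) := by
    push_cast
    rw [hn']; field_simp
  exact Int.natCast_dvd_natCast.mp ⟨n, by exact_mod_cast this.symm⟩

/-- Degree as a natural number. -/
theorem exists_degree_eq (χ : IrrCharacter G) :
    ∃ n : ℕ, 0 < n ∧ (χ : G → ℂ) 1 = n ∧ charDegree (χ : G → ℂ) = n := by
  obtain ⟨n, hn, he⟩ := Char.IsIrrCharacter.exists_degree χ.2
  exact ⟨n, hn, he, by simp [charDegree, he]⟩

theorem charDegree_pos (χ : IrrCharacter G) : 0 < charDegree (χ : G → ℂ) := by
  obtain ⟨n, hn, -, he⟩ := exists_degree_eq χ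
  rwa [he]

theorem apply_one_eq_charDegree (χ : IrrCharacter G) :
    (χ : G → ℂ) 1 = (charDegree (χ : G → ℂ) : ℂ) := by
  obtain ⟨n, -, he, hd⟩ := exists_degree_eq χ
  rw [he, hd]

/-- The scalar of the class sum of `x`. -/
noncomputable def omega (χ : G → ℂ) (x : G) : ℂ :=
  (Nat.card {g : G // IsConj x g} : ℂ) * χ x / χ 1

theorem card_class_mul_card_centralizer (x : G) :
    Nat.card {g : G // IsConj x g} * Nat.card ↥(Subgroup.centralizer ({x} : Set G)) = Nat.card G :=
  Char.card_conjugates_mul_card_centralizer x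

theorem card_class_eq_index (x : G) :
    Nat.card {g : G // IsConj x g} = (Subgroup.centralizer ({x} : Set G)).index := by
  have h := card_class_mul_card_centralizer x
  rw [← Subgroup.card_mul_index (Subgroup.centralizer ({x} : Set G)), mul_comm] at h
  exact Nat.eq_of_mul_eq_mul_left Nat.card_pos h

theorem class_apply {χ : G → ℂ} (h : IsClassFunction G χ) {x g : G} (hg : IsConj x g) :
    χ g = χ x := by
  obtain ⟨c, rfl⟩ := isConj_iff.mp hg
  exact h x c

theorem omega_eq_centralChar (χ : G → ℂ) (x : G) : omega χ x = centralChar χ x := by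
  rw [omega, centralChar, card_class_eq_index]

section
variable [Fintype G]

open Classical in
theorem sum_class_smul {V : Type*} [AddCommGroup V] [Module ℂ V] [FiniteDimensional ℂ V]
    (ρ : Representation ℂ G V) [ρ.IsIrreducible] (x : G) :
    (∑ g ∈ Finset.univ.filter (fun g => IsConj x g), ρ g) =
      omega ρ.character x • LinearMap.id := by
  have hf : IsClassFunction G (fun g => if IsConj x g then (1 : ℂ) else 0) := by
    intro g h
    have e : IsConj g (h * g * h⁻¹) := isConj_iff.mpr ⟨h, rfl⟩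
    exact if_congr ⟨fun he => he.trans e.symm, fun he => he.trans e⟩ rfl rfl
  have := Char.groupSumOp_eq_smul ρ hf
  rw [Char.groupSumOp] at this
  simp only [ite_smul, one_smul, zero_smul, ite_mul, one_mul, zero_mul, ← Finset.sum_filter] at this
  rw [this]
  congr 1
  rw [omega, Representation.char_one]
  congr 1
  rw [Finset.sum_congr rfl (fun g hg => class_apply (Char.isClassFunction_character ρ)
    (Finset.mem_filter.mp hg).2), Finset.sum_const, nsmul_eq_mul, Nat.card_eq_fintype_card,
    Fintype.card_subtype]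

open Classical in
theorem sum_class_apply_mul {χ : G → ℂ} (hχ : IsIrrCharacter G χ) (x h : G) :
    (∑ g ∈ Finset.univ.filter (fun g => IsConj x g), χ (g * h)) = omega χ x * χ h := by
  obtain ⟨n, ρ, hi, rfl⟩ := hχ
  have := congrArg (fun T => LinearMap.trace ℂ (Fin n → ℂ) (T * ρ h)) (sum_class_smul ρ x)
  simpa [Finset.sum_mul, Representation.character, ← Module.End.one_eq_id] using this

end

theorem isIntegral_omega {χ : G → ℂ} (hχ : IsIrrCharacter G χ) (x : G) :
    IsIntegral ℤ (omega χ x) := by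
  classical
  have := Fintype.ofFinite G
  obtain ⟨n, ρ, hi, rfl⟩ := hχ
  have : Module.Finite ℤ (MonoidAlgebra ℤ G) := Module.Finite.of_basis (MonoidAlgebra.basis ..)
  let Φ := MonoidAlgebra.lift ℤ (Module.End ℂ (Fin n → ℂ)) G ρ
  have h1 : IsIntegral ℤ (Φ (∑ g ∈ Finset.univ.filter (fun g => IsConj x g),
      MonoidAlgebra.single g (1 : ℤ))) := (IsIntegral.of_finite ℤ _).map Φ
  have h2 : Φ (∑ g ∈ Finset.univ.filter (fun g => IsConj x g), MonoidAlgebra.single g (1 : ℤ)) =
      algebraMap ℂ (Module.End ℂ (Fin n → ℂ)) (omega ρ.character x) := by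
    simp only [Φ, map_sum, MonoidAlgebra.lift_single, one_smul, Algebra.algebraMap_eq_smul_one]
    rw [sum_class_smul ρ x, Module.End.one_eq_id]
  rw [h2] at h1
  have := Char.nontrivial_of_isIrreducible ρ
  exact (isIntegral_algHom_iff (IsScalarTower.toAlgHom ℤ ℂ (Module.End ℂ (Fin n → ℂ)))
    (algebraMap ℂ (Module.End ℂ (Fin n → ℂ))).injective).mp h1

theorem degree_dvd_card (χ : IrrCharacter G) : charDegree (χ : G → ℂ) ∣ Nat.card G := by
  classical
  have := Fintype.ofFinite G
  have := Fintype.ofFinite (ConjClasses G)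
  have hcl := Char.IsIrrCharacter.isClassFunction χ.2
  have hne := Char.IsIrrCharacter.apply_one_ne_zero χ.2
  have h1 := Char.card_mul_classInner (χ : G → ℂ) (χ : G → ℂ)
  rw [Char.classInner_irr_self χ.2, mul_one, ← Finset.sum_fiberwise Finset.univ ConjClasses.mk] at h1
  refine dvd_of_mul_isIntegral (z := ∑ C : ConjClasses G,
    omega (χ : G → ℂ) C.out * (starRingEnd ℂ) ((χ : G → ℂ) C.out)) ?_ ?_
  · refine IsIntegral.sum _ fun C _ => (isIntegral_omega χ.2 _).mul ?_
    exact Char.IsCharacter.isIntegral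
      (Char.IsCharacter.conj (Char.IsIrrCharacter.isCharacter χ.2)) C.out
  · rw [h1, ← apply_one_eq_charDegree, Finset.mul_sum]
    refine Finset.sum_congr rfl fun C _ => ?_
    have hC : ∀ g, ConjClasses.mk g = C ↔ IsConj C.out g := by
      intro g
      conv_lhs => rw [← Quotient.out_eq C]
      exact ⟨fun h => (ConjClasses.mk_eq_mk_iff_isConj.mp h).symm,
        fun h => ConjClasses.mk_eq_mk_iff_isConj.mpr h.symm⟩
    rw [Finset.filter_congr (fun g _ => hC g), Finset.sum_congr rfl (g := fun _ =>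
      (χ : G → ℂ) C.out * (starRingEnd ℂ) ((χ : G → ℂ) C.out))
      (fun g hg => by rw [class_apply hcl (Finset.mem_filter.mp hg).2]),
      Finset.sum_const, nsmul_eq_mul, omega, Nat.card_eq_fintype_card, Fintype.card_subtype]
    field_simp

/-- The class algebra constant through characters. -/
theorem card_mul_fibreCount [Fintype (IrrCharacter G)] (x x' y : G) :
    (Nat.card G : ℂ) * (fibreCount x x' y : ℂ) =
      ∑ χ : IrrCharacter G, (χ : G → ℂ) 1 * omega (χ : G → ℂ) x * omega (χ : G → ℂ) x' *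
        (χ : G → ℂ) y⁻¹ := by
  classical
  have := Fintype.ofFinite G
  set S := Finset.univ.filter (fun g => IsConj x g)
  set S' := Finset.univ.filter (fun g => IsConj x' g)
  have h1 : (Nat.card G : ℂ) * (fibreCount x x' y : ℂ) =
      ∑ g ∈ S, ∑ h ∈ S', if g * (h * y⁻¹) = 1 then (Nat.card G : ℂ) else 0 := by
    have : ∀ g h : G, (g * (h * y⁻¹) = 1) = (h = g⁻¹ * y) := fun g h => propext <| by
      rw [← mul_assoc, mul_inv_eq_one, eq_inv_mul_iff_mul_eq]
    simp only [this, Finset.sum_ite_eq', S', Finset.mem_filter, Finset.mem_univ, true_and]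
    rw [← Finset.sum_filter, Finset.sum_const, nsmul_eq_mul, Finset.filter_filter, fibreCount,
      Nat.card_eq_fintype_card (α := {g : G // IsConj x g ∧ IsConj x' (g⁻¹ * y)}),
      Fintype.card_subtype, mul_comm]
  rw [h1]
  simp only [← Char.sum_degree_mul_apply]
  rw [Finset.sum_congr rfl (fun g _ => Finset.sum_comm), Finset.sum_comm]
  refine Finset.sum_congr rfl fun χ _ => ?_
  simp only [← Finset.mul_sum]
  rw [Finset.sum_comm, Finset.sum_congr rfl (fun h _ => sum_class_apply_mul χ.2 x (h * y⁻¹)),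
    ← Finset.mul_sum, sum_class_apply_mul χ.2 x' y⁻¹]
  ring

theorem exists_sum_subgroup_eq (P : Subgroup G) [Fintype ↥P] {χ : G → ℂ} (hχ : IsCharacter G χ) :
    ∃ m : ℕ, ∑ y : ↥P, χ (y : G) = (Nat.card ↥P : ℂ) * m := by
  obtain ⟨m, hm⟩ := Char.IsCharacter.classInner_nat (Char.IsCharacter.restrict hχ P)
    Char.isCharacter_one
  refine ⟨m, ?_⟩
  rw [← hm, Char.card_mul_classInner]
  simp

/-- If every degree divides `L`, then `|P| * |G|` divides `L * |C x| * |C x'| * pairCount`. -/
theorem card_mul_dvd_pairCount (P : Subgroup G) (x x' : G) {L : ℕ}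
    (hL : ∀ χ : IrrCharacter G, charDegree (χ : G → ℂ) ∣ L) :
    Nat.card ↥P * Nat.card G ∣ L * Nat.card ↥(Subgroup.centralizer ({x} : Set G)) *
      Nat.card ↥(Subgroup.centralizer ({x'} : Set G)) * pairCount P x x' := by
  classical
  have := Fintype.ofFinite (IrrCharacter G)
  have := Fintype.ofFinite ↥P
  set C := (Nat.card ↥(Subgroup.centralizer ({x} : Set G)) : ℂ) with hC
  set C' := (Nat.card ↥(Subgroup.centralizer ({x'} : Set G)) : ℂ) with hC'
  set K := (Nat.card {g : G // IsConj x g} : ℂ) with hK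
  set K' := (Nat.card {g : G // IsConj x' g} : ℂ) with hK'
  have hKC : K * C = Nat.card G := by
    rw [hK, hC]; exact_mod_cast card_class_mul_card_centralizer x
  have hKC' : K' * C' = Nat.card G := by
    rw [hK', hC']; exact_mod_cast card_class_mul_card_centralizer x'
  have hm := fun χ : IrrCharacter G =>
    exists_sum_subgroup_eq P (Char.IsCharacter.inv (Char.IsIrrCharacter.isCharacter χ.2))
  choose m hm using hm
  choose l hl using hL
  refine dvd_of_mul_isIntegral (z := ∑ χ : IrrCharacter G,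
    (l χ : ℂ) * (m χ : ℂ) * (χ : G → ℂ) x * (χ : G → ℂ) x') ?_ ?_
  · refine IsIntegral.sum _ fun χ _ => ?_
    have hi := Char.IsCharacter.isIntegral (Char.IsIrrCharacter.isCharacter χ.2)
    exact ((map_natCast (algebraMap ℤ ℂ) _ ▸ isIntegral_algebraMap).mul
      (map_natCast (algebraMap ℤ ℂ) _ ▸ isIntegral_algebraMap)).mul (hi x) |>.mul (hi x')
  · have hsum : (Nat.card G : ℂ) * (pairCount P x x' : ℂ) = ∑ χ : IrrCharacter G,
        (χ : G → ℂ) 1 * omega (χ : G → ℂ) x * omega (χ : G → ℂ) x' *
          ((Nat.card ↥P : ℂ) * m χ) := by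
      rw [pairCount_eq_sum_fibre, Nat.cast_sum, Finset.mul_sum,
        Finset.sum_congr rfl (fun (y : ↥P) _ => card_mul_fibreCount x x' (y : G)), Finset.sum_comm]
      refine Finset.sum_congr rfl fun χ _ => ?_
      rw [← Finset.mul_sum, hm χ]
    have hG : (Nat.card G : ℂ) ≠ 0 := by exact_mod_cast Nat.card_pos.ne'
    push_cast
    rw [← hC, ← hC', ← mul_left_inj' hG]
    calc (L : ℂ) * C * C' * (pairCount P x x' : ℂ) * (Nat.card G : ℂ)
        = ∑ χ : IrrCharacter G, (L : ℂ) * C * C' * ((χ : G → ℂ) 1 * omega (χ : G → ℂ) x *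
            omega (χ : G → ℂ) x' * ((Nat.card ↥P : ℂ) * m χ)) := by
          rw [← Finset.mul_sum, ← hsum]; ring
      _ = _ := by
          rw [Finset.mul_sum, Finset.sum_mul]
          refine Finset.sum_congr rfl fun χ _ => ?_
          have hne := Char.IsIrrCharacter.apply_one_ne_zero χ.2
          rw [show (L : ℂ) = (χ : G → ℂ) 1 * (l χ : ℂ) by
            rw [apply_one_eq_charDegree, hl χ]; push_cast; rfl, omega, omega, ← hK, ← hK']
          field_simp
          linear_combination ((l χ : ℂ) * (m χ : ℂ) * (χ : G → ℂ) x * (χ : G → ℂ) x' *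
            K' * C') * hKC + ((l χ : ℂ) * (m χ : ℂ) * (χ : G → ℂ) x *
            (χ : G → ℂ) x' * (Nat.card G : ℂ)) * hKC'

/-- Degrees with bounded `p`-part divide the corresponding reduced order. -/
theorem degree_dvd_div {p j : ℕ} (hp : p.Prime) (hj : j ≤ (Nat.card G).factorization p)
    (h : ∀ χ : IrrCharacter G,
      (charDegree (χ : G → ℂ)).factorization p + j ≤ (Nat.card G).factorization p)
    (χ : IrrCharacter G) : charDegree (χ : G → ℂ) ∣ Nat.card G / p ^ j := by
  have hG : Nat.card G ≠ 0 := Nat.card_pos.ne'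
  have hpj : p ^ j ∣ Nat.card G := (hp.pow_dvd_iff_le_factorization hG).mpr hj
  have hd0 := (charDegree_pos χ).ne'
  have hdiv : Nat.card G / p ^ j ≠ 0 :=
    (Nat.div_pos (Nat.le_of_dvd (Nat.pos_of_ne_zero hG) hpj) (pow_pos hp.pos _)).ne'
  rw [← Nat.factorization_le_iff_dvd hd0 hdiv, Nat.factorization_div hpj]
  intro q
  rw [Finsupp.tsub_apply, Nat.Prime.factorization_pow hp]
  rcases eq_or_ne q p with rfl | hq
  · have := h χ; simp only [Finsupp.single_eq_same]; omega
  · rw [Finsupp.single_eq_of_ne hq, Nat.sub_zero]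
    exact (Nat.factorization_le_iff_dvd hd0 hG).mpr (degree_dvd_card χ) q

/-- If no conjugates of `x` and `x⁻¹` multiply to a non-identity element of a `p`-subgroup `P`,
some degree is divisible by `|P|` divided by the `p`-part of the centralizer of `x`. -/
theorem exists_degree_dvd_of_trivial_pairs {p : ℕ} [hp : Fact p.Prime] (P : Subgroup G) {c : ℕ}
    (hP : Nat.card ↥P = p ^ c) (x : G)
    (h : ∀ g k : G, IsConj x g → IsConj x⁻¹ k → g * k ∈ P → g * k = 1) :
    ∃ χ : IrrCharacter G, p ^ (c - (Nat.card ↥(Subgroup.centralizer ({x} : Set G))).factorization p)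
      ∣ charDegree (χ : G → ℂ) := by
  set a := (Nat.card ↥(Subgroup.centralizer ({x} : Set G))).factorization p with ha
  by_contra hne
  push Not at hne
  have hc : c ≤ (Nat.card G).factorization p := by
    rw [← hp.out.pow_dvd_iff_le_factorization Nat.card_pos.ne', ← hP]
    exact Subgroup.card_subgroup_dvd_card P
  have hlt : ∀ χ : IrrCharacter G, (charDegree (χ : G → ℂ)).factorization p < c - a := by
    intro χ
    by_contra hle
    exact hne χ ((hp.out.pow_dvd_iff_le_factorization (charDegree_pos χ).ne').mpr (by omega))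
  have hex : 0 < c - a := lt_of_le_of_lt (Nat.zero_le _)
    (hlt ⟨fun _ => 1, Char.isIrrCharacter_one⟩)
  set j := (Nat.card G).factorization p - (c - a) + 1 with hj
  have hjA : j ≤ (Nat.card G).factorization p := by omega
  have hd := card_mul_dvd_pairCount P x x⁻¹ (fun χ => degree_dvd_div hp.out hjA
    (fun χ => by have := hlt χ; omega) χ)
  have hinv : Subgroup.centralizer ({x⁻¹} : Set G) = Subgroup.centralizer ({x} : Set G) := by
    ext g
    rw [Subgroup.mem_centralizer_singleton_iff, Subgroup.mem_centralizer_singleton_iff]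
    exact Commute.inv_right_iff
  rw [hinv, pairCount_eq_of_trivial P x h, mul_assoc, mul_comm (Nat.card ↥(Subgroup.centralizer
    ({x} : Set G))) (Nat.card {g : G // IsConj x g}), card_class_mul_card_centralizer] at hd
  have hd' := Nat.dvd_of_mul_dvd_mul_right Nat.card_pos hd
  have hpj : p ^ j ∣ Nat.card G := (hp.out.pow_dvd_iff_le_factorization Nat.card_pos.ne').mpr hjA
  have hne0 : Nat.card G / p ^ j ≠ 0 :=
    (Nat.div_pos (Nat.le_of_dvd Nat.card_pos hpj) (pow_pos hp.out.pos _)).ne'
  rw [hP, hp.out.pow_dvd_iff_le_factorization (mul_ne_zero hne0 Nat.card_pos.ne'),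
    Nat.factorization_mul hne0 Nat.card_pos.ne', Nat.factorization_div hpj] at hd'
  rw [Finsupp.add_apply, Finsupp.tsub_apply, Nat.Prime.factorization_pow hp.out,
    Finsupp.single_eq_same, ← ha] at hd'
  omega

end Cfsg.Agent.ClassCount
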