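import Cfsg.Agent.Lib.Char.PRegular

/-!
# Sums of characters over the `p`-elements

`sum_pElements`: for a character `χ` the sum of `χ` over the elements of `p`-power order is an
integer multiple of the `p`-part of the group order.
-/

set_option autoImplicit false

open scoped ComplexConjugate

namespace Cfsg.Agent.ClassCount

open Cfsg Cfsg.Agent.Char

/-- The indicator of the elements of `p`-power order. -/
noncomputable def pElt {G : Type*} [Group G] (p : ℕ) (x : G) : ℂ := by
  classical exact if x ^ p ^ (Nat.card G).factorization p = 1 then 1 else 0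

variable {G : Type*} [Group G]

theorem isClassFunction_pElt (p : ℕ) : IsClassFunction G (pElt (G := G) p) := by
  intro g h
  classical
  simp only [pElt, conj_pow]
  congr 1
  exact propext conj_eq_one_iff

theorem conj_pElt (p : ℕ) (g : G) : conj (pElt p g) = pElt p g := by
  classical
  simp only [pElt]
  split_ifs <;> simp

theorem isGeneralizedCharacter_pElt [Finite G] {p : ℕ} (hp : p.Prime) :
    IsGeneralizedCharacter G (fun x : G =>
      ((Nat.card G / p ^ (Nat.card G).factorization p : ℕ) : ℂ) * pElt p x) := by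
  classical
  set a := (Nat.card G).factorization p with ha
  set m := Nat.card G / p ^ a with hm
  have hcl : IsClassFunction G (fun x : G => (m : ℂ) * pElt p x) := fun g h => by
    simp only [isClassFunction_pElt p g h]
  refine brauer_characterization hcl fun E q hq hE => ?_
  have := isNilpotent_of_isElementary hq hE
  have := Fintype.ofFinite E
  set A := p ^ (Nat.card E).factorization p
  set B := Nat.card E / A
  have hAB : A * B = Nat.card E := Nat.ordProj_mul_ordCompl_eq_self _ _
  have hcop : A.Coprime B := (Nat.coprime_ordCompl hp Nat.card_pos.ne').pow_left _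
  obtain ⟨P, Q, e, he, hP, hQ, hcP, hcQ⟩ := exists_split hcop hAB.symm
  have hmem : ∀ x : E, ((x : G) ^ p ^ a = 1) ↔ x ∈ P := by
    intro x
    rw [hP]
    have hEG : (Nat.card E).factorization p ≤ a :=
      (Nat.factorization_le_iff_dvd Nat.card_pos.ne' Nat.card_pos.ne').mpr
        (Subgroup.card_subgroup_dvd_card E) p
    constructor
    · intro h
      rw [← Subgroup.coe_pow, OneMemClass.coe_eq_one] at h
      rw [← orderOf_dvd_iff_pow_eq_one] at h ⊢
      exact ((Nat.coprime_ordCompl hp Nat.card_pos.ne').pow_left a).coprime_dvd_left h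
        |>.dvd_of_dvd_mul_right (hAB ▸ orderOf_dvd_natCard x)
    · intro h
      rw [← Subgroup.coe_pow, OneMemClass.coe_eq_one, ← orderOf_dvd_iff_pow_eq_one]
      exact (orderOf_dvd_of_pow_eq_one h).trans (pow_dvd_pow p hEG)
  obtain ⟨t, ht⟩ : B ∣ m := by
    have h1 : Nat.card E ∣ p ^ a * m :=
      (Subgroup.card_subgroup_dvd_card E).trans (Nat.ordProj_mul_ordCompl_eq_self _ p).symm.dvd
    exact ((Nat.coprime_ordCompl hp Nat.card_pos.ne').pow_left a).symm.dvd_of_dvd_mul_left
      ((dvd_mul_left B A).trans (hAB ▸ h1))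
  refine isGeneralizedCharacter_iff_classInner.2 ⟨fun g h => hcl g h, fun ψ => ?_⟩
  have := Fintype.ofFinite P
  obtain ⟨k, hk⟩ := IsGeneralizedCharacter.classInner_int
    (isGeneralizedCharacter_of_isCharacter (isCharacter_one (G := P)))
    (isGeneralizedCharacter_of_isCharacter
      (IsCharacter.restrict (IsIrrCharacter.isCharacter ψ.2) P))
  refine ⟨t * k, ?_⟩
  have hval : ∀ x : E, (m : ℂ) * pElt p (x : G) * conj ((ψ : E → ℂ) x)
      = if x ∈ P then (m : ℂ) * conj ((ψ : E → ℂ) x) else 0 := by
    intro x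
    by_cases hx : x ∈ P
    · rw [if_pos hx, pElt, if_pos ((hmem x).mpr hx), mul_one]
    · rw [if_neg hx, pElt, if_neg (fun h => hx ((hmem x).mp h)), mul_zero, zero_mul]
  rw [Int.cast_mul, Int.cast_natCast, ← hk]
  simp only [classInner, hval]
  rw [← Finset.sum_filter, Finset.sum_subtype (p := (· ∈ P)) _ (fun x => by simp)]
  rw [← Finset.mul_sum, ← hAB, hcP, ht]
  simp only [Pi.one_apply, one_mul]
  have hA0 : (A : ℂ) ≠ 0 := hcP ▸ Nat.cast_ne_zero.2 Nat.card_pos.ne'
  have hB0 : (B : ℂ) ≠ 0 := hcQ ▸ Nat.cast_ne_zero.2 Nat.card_pos.ne'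
  push_cast
  field_simp

/-- Frobenius: the sum of a character over the `p`-elements is divisible by the order of a Sylow
subgroup. -/
theorem sum_pElements [Fintype G] {p : ℕ} (hp : p.Prime) {χ : G → ℂ} (hχ : IsCharacter G χ) :
    ∃ k : ℤ, ∑ x : G, pElt p x * χ x = ((p ^ (Nat.card G).factorization p : ℕ) : ℂ) * k := by
  classical
  set a := (Nat.card G).factorization p with ha
  obtain ⟨k, hk⟩ := IsGeneralizedCharacter.classInner_int
    (isGeneralizedCharacter_of_isCharacter hχ) (isGeneralizedCharacter_pElt (G := G) hp)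
  refine ⟨k, ?_⟩
  rw [← hk, classInner]
  simp only [map_mul, Complex.conj_natCast, conj_pElt]
  have h0 : ((Nat.card G / p ^ a : ℕ) : ℂ) ≠ 0 :=
    Nat.cast_ne_zero.2 (Nat.ordCompl_pos p Nat.card_pos.ne').ne'
  have h1 : (Nat.card G : ℂ) = ((p ^ a : ℕ) : ℂ) * ((Nat.card G / p ^ a : ℕ) : ℂ) := by
    rw [← Nat.cast_mul, Nat.ordProj_mul_ordCompl_eq_self]
  have h2 : ((p ^ a : ℕ) : ℂ) ≠ 0 := Nat.cast_ne_zero.2 (pow_ne_zero _ hp.ne_zero)
  rw [h1, ← mul_assoc, Finset.mul_sum]
  refine Finset.sum_congr rfl fun x _ => ?_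
  field_simp
  rw [ha]

end Cfsg.Agent.ClassCount
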