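/-
Sums of characters over the p-regular elements.
Main results: `regSum_eq_int` (an integer divisible by the p'-part of the order),
`card_regular_not_dvd`, `regSum_ne_zero_of_principal`, `card_le_of_all_ne_zero`.
-/
import Cfsg.Agent.Lib.ClassCount.CharSum
import Cfsg.Agent.Lib.PermChar.Solomon
import Cfsg.Agent.Lib.Blocks.Osima

set_option autoImplicit false

namespace Cfsg.Agent.ClassCount

open Cfsg.Agent

variable {G : Type*} [Group G] [Finite G]

open scoped Classical in
/-- The indicator of the `p`-regular elements. -/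
noncomputable def regInd (p : ℕ) (g : G) : ℂ := if p ∣ orderOf g then 0 else 1

/-- The sum of a function over the `p`-regular elements. -/
noncomputable def regSum [Fintype G] (p : ℕ) (f : G → ℂ) : ℂ := ∑ g, regInd p g * f g

omit [Finite G] in
theorem regInd_conj (p : ℕ) (g h : G) : regInd p (h * g * h⁻¹) = regInd p g := by
  rw [regInd, regInd, show h * g * h⁻¹ = MulAut.conj h g from rfl, MulEquiv.orderOf_eq]

omit [Finite G] in
theorem regInd_coe {U : Subgroup G} (p : ℕ) (u : U) : regInd p (u : G) = regInd p u := by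
  rw [regInd, regInd, Subgroup.orderOf_coe]

theorem mem_zpowers_of_pow_eq_one {X : Type*} [Group X] [Finite X] [IsCyclic X] {p : ℕ}
    (hp : 0 < p) {x y : X} (hx : orderOf x = p) (hy : y ^ p = 1) : y ∈ Subgroup.zpowers x := by
  classical
  have := Fintype.ofFinite X
  have hsub : Finset.univ.filter (fun a => a ∈ Subgroup.zpowers x) ⊆
      Finset.univ.filter (fun a : X => a ^ p = 1) := by
    intro a ha
    obtain ⟨i, rfl⟩ := Subgroup.mem_zpowers_iff.mp (Finset.mem_filter.mp ha).2
    refine Finset.mem_filter.mpr ⟨Finset.mem_univ _, ?_⟩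
    rw [← zpow_natCast, ← zpow_mul, mul_comm, zpow_mul, zpow_natCast, ← hx, pow_orderOf_eq_one,
      one_zpow]
  have hcard : (Finset.univ.filter (fun a : X => a ^ p = 1)).card ≤
      (Finset.univ.filter (fun a => a ∈ Subgroup.zpowers x)).card := by
    refine (IsCyclic.card_pow_eq_one_le hp).trans (le_of_eq ?_)
    rw [← Fintype.card_subtype, ← Nat.card_eq_fintype_card]
    exact hx.symm.trans (Nat.card_zpowers x).symm
  have h := (Finset.eq_of_subset_of_card_le hsub hcard).symm
  have : y ∈ Finset.univ.filter (fun a => a ∈ Subgroup.zpowers x) := by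
    rw [← h]; simp [hy]
  exact (Finset.mem_filter.mp this).2

/-- An element of order prime to `p` acting on an abelian `p`-group fixing the elements of order
`p` fixes everything. -/
theorem fixed_of_fixed_order {H : Type*} [Group H] [Finite H] {p : ℕ} [Fact p.Prime]
    {X : Subgroup H} [X.Normal] (hX : IsCyclic X) (w : H) (hw : ¬ p ∣ orderOf w)
    (h1 : ∀ x ∈ X, x ^ p = 1 → w * x * w⁻¹ = x) :
    ∀ (k : ℕ), ∀ x ∈ X, x ^ p ^ k = 1 → w * x * w⁻¹ = x := by
  intro k
  induction k with
  | zero => intro x _ hx; rw [pow_zero, pow_one] at hx; simp [hx]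
  | succ k ih =>
    intro x hx hxk
    have hcomm : ∀ a ∈ X, ∀ b ∈ X, a * b = b * a := fun a ha b hb => by
      have : IsMulCommutative X := ⟨⟨fun a b => hX.isMulCommutative.is_comm.comm a b⟩⟩
      exact congrArg Subtype.val (this.is_comm.comm ⟨a, ha⟩ ⟨b, hb⟩)
    have hcx : w * x * w⁻¹ ∈ X := Subgroup.Normal.conj_mem inferInstance x hx w
    set z := w * x * w⁻¹ * x⁻¹ with hz
    have hzX : z ∈ X := mul_mem hcx (inv_mem hx)
    have hzp : z ^ p = 1 := by
      have hxp := ih (x ^ p) (pow_mem hx p) (by rw [← pow_mul, ← pow_succ']; exact hxk)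
      rw [hz, Commute.mul_pow (hcomm _ hcx _ (inv_mem hx)), conj_pow, hxp,
        inv_pow, mul_inv_cancel]
    have hwz := h1 z hzX hzp
    have hiter : ∀ m : ℕ, w ^ m * x * (w ^ m)⁻¹ = z ^ m * x := by
      intro m
      induction m with
      | zero => simp
      | succ m ihm =>
        calc w ^ (m + 1) * x * (w ^ (m + 1))⁻¹ = w * (w ^ m * x * (w ^ m)⁻¹) * w⁻¹ := by
              rw [pow_succ']; group
          _ = (w * z ^ m * w⁻¹) * (w * x * w⁻¹) := by rw [ihm]; group
          _ = z ^ (m + 1) * x := by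
            rw [← conj_pow, hwz, pow_succ, hz]; group
    have h2 := hiter (orderOf w)
    rw [pow_orderOf_eq_one, one_mul, inv_one, mul_one, eq_comm, mul_eq_right] at h2
    have hz1 : z = 1 := orderOf_eq_one_iff.mp (Nat.eq_one_of_dvd_coprimes
      ((Fact.out : p.Prime).coprime_iff_not_dvd.mpr hw) (orderOf_dvd_of_pow_eq_one hzp)
      (orderOf_dvd_of_pow_eq_one h2))
    rwa [hz, mul_inv_eq_one] at hz1

/-- The quasi-elementary case. -/
theorem regSum_quasiElementary {H : Type*} [Group H] [Fintype H] {p q : ℕ} [hp : Fact p.Prime]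
    [hq : Fact q.Prime] (hpq : p ≠ q) {C : Subgroup H} [C.Normal] (hC : IsCyclic C) {k : ℕ}
    (hk : C.index = q ^ k) {θ : H → ℂ} (hθ : IsCharacter H θ) :
    ∃ z : ℤ, regSum p θ = (q : ℂ) ^ (Nat.card H).factorization q * (z : ℂ) := by
  classical
  let S : Sylow p H := default
  have hSC : (S : Subgroup H) ≤ C := by
    intro x hx
    obtain ⟨n, hn⟩ := IsPGroup.iff_orderOf.mp S.isPGroup' ⟨x, hx⟩
    rw [Subgroup.orderOf_mk] at hn
    rw [← QuotientGroup.eq_one_iff, ← orderOf_eq_one_iff]
    refine Nat.eq_one_of_dvd_coprimes (((Nat.coprime_primes hp.out hq.out).mpr hpq).pow n k)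
      (hn ▸ orderOf_map_dvd (QuotientGroup.mk' C) x) ?_
    rw [← hk, Subgroup.index]; exact orderOf_dvd_natCard _
  set X := (S : Subgroup H) with hX
  have hXc : IsCyclic X := isCyclic_of_injective (Subgroup.inclusion hSC) (Subgroup.inclusion_injective _)
  have hXn : X.Normal := by
    have : IsMulCommutative C := ⟨⟨fun a b => hC.isMulCommutative.is_comm.comm a b⟩⟩
    refine ⟨fun x hx h => ?_⟩
    -- elements of p-power order in the cyclic normal subgroup form X
    have hxC := hSC hx
    have hcC : h * x * h⁻¹ ∈ C := Subgroup.Normal.conj_mem inferInstance x hxC h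
    obtain ⟨n, hn⟩ := IsPGroup.iff_orderOf.mp S.isPGroup' ⟨x, hx⟩
    rw [Subgroup.orderOf_mk] at hn
    have hxp : IsPGroup p (Subgroup.zpowers (h * x * h⁻¹)) := IsPGroup.of_card (n := n) (by
      rw [Nat.card_zpowers, show h * x * h⁻¹ = MulAut.conj h x from rfl, MulEquiv.orderOf_eq, hn])
    have hnorm : Subgroup.zpowers (h * x * h⁻¹) ≤ Subgroup.normalizer (X : Set H) := by
      rw [Subgroup.zpowers_le, Subgroup.mem_normalizer_iff]
      intro y
      have hc : ∀ y ∈ X, Commute (h * x * h⁻¹) y := fun y hy =>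
        congrArg Subtype.val (this.is_comm.comm ⟨_, hcC⟩ ⟨y, hSC hy⟩)
      refine ⟨fun hy => by rwa [(hc y hy).eq, mul_inv_cancel_right], fun hy => ?_⟩
      have e : y = h * x * h⁻¹ * y * (h * x * h⁻¹)⁻¹ := by
        have := (hc _ hy).eq
        have e2 : y = (h * x * h⁻¹)⁻¹ * ((h * x * h⁻¹ * y * (h * x * h⁻¹)⁻¹) * (h * x * h⁻¹)) := by
          group
        conv_lhs => rw [e2, ← this, inv_mul_cancel_left]
      rwa [e]
    have hsup : IsPGroup p ↥(X ⊔ Subgroup.zpowers (h * x * h⁻¹)) :=
      S.isPGroup'.to_sup_of_normal_left' hxp hnorm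
    have := S.is_maximal' hsup le_sup_left
    exact this.le (le_sup_right (a := X) (Subgroup.mem_zpowers _))
  obtain ⟨W, hW⟩ := Subgroup.exists_right_complement'_of_coprime (N := X) S.card_coprime_index
  have hWp : ∀ w ∈ W, ¬ p ∣ orderOf w := by
    intro w hw hd
    have h1 := hd.trans (Subgroup.orderOf_dvd_natCard _ hw)
    rw [← hW.symm.index_eq_card] at h1
    exact S.not_dvd_index h1
  set W₁ := (Subgroup.centralizer (X : Set H)).subgroupOf W with hW₁
  -- coset sums
  have hsum : regSum p θ = ∑ w : W, ((if w ∈ W₁ then (1 : ℂ) else (Nat.card X : ℂ)) * θ w) := by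
    rw [regSum, ← (Equiv.ofBijective _ hW).sum_comp]
    rw [Fintype.sum_prod_type, Finset.sum_comm]
    refine Finset.sum_congr rfl fun w _ => ?_
    show (∑ x : X, regInd p ((x : H) * (w : H)) * θ ((x : H) * (w : H))) = _
    split_ifs with hw1
    · rw [one_mul, Finset.sum_eq_single (⟨1, one_mem X⟩ : X)]
      · rw [show (((⟨1, one_mem X⟩ : X) : H)) = 1 from rfl, one_mul, regInd, if_neg (hWp w w.2), one_mul]
      · rintro x - hx
        have hc : Commute (x : H) (w : H) := Subgroup.mem_centralizer_iff.mp hw1 x x.2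
        rw [regInd, if_pos, zero_mul]
        obtain ⟨n, hn⟩ := IsPGroup.iff_orderOf.mp S.isPGroup' x
        rw [← Subgroup.orderOf_coe] at hn
        have hcop : Nat.Coprime (orderOf (x : H)) (orderOf (w : H)) := by
          rw [hn]; exact Nat.Coprime.pow_left n (hp.out.coprime_iff_not_dvd.mpr (hWp w w.2))
        rw [hc.orderOf_mul_eq_mul_orderOf_of_coprime hcop, hn]
        rcases n with _ | n
        · exact absurd (Subtype.ext (orderOf_eq_one_iff.mp (by simpa using hn))) hx
        · exact Dvd.dvd.mul_right (dvd_pow_self p n.succ_ne_zero) _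
      · simp
    · -- every element of the coset is conjugate to w
      have hfree : ∀ x ∈ X, (w : H) * x * (w : H)⁻¹ = x → x = 1 := by
        intro x hx hfix
        by_contra hx1
        apply hw1
        rw [hW₁, Subgroup.mem_subgroupOf, Subgroup.mem_centralizer_iff]
        obtain ⟨n, hn⟩ := IsPGroup.iff_orderOf.mp S.isPGroup' ⟨x, hx⟩
        rw [Subgroup.orderOf_mk] at hn
        rcases n with _ | n
        · exact absurd (orderOf_eq_one_iff.mp (by simpa using hn)) hx1
        set x₀ := x ^ p ^ n with hx₀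
        have hx₀o : orderOf x₀ = p := by
          rw [hx₀, orderOf_pow' x (pow_ne_zero _ hp.out.ne_zero), hn,
            Nat.gcd_eq_right (pow_dvd_pow _ (Nat.le_succ n)), pow_succ,
            Nat.mul_div_cancel_left _ (pow_pos hp.out.pos n)]
        have hx₀fix : (w : H) * x₀ * (w : H)⁻¹ = x₀ := by rw [hx₀, ← conj_pow, hfix]
        have hΩ : ∀ y ∈ X, y ^ p = 1 → (w : H) * y * (w : H)⁻¹ = y := by
          intro y hy hyp
          obtain ⟨i, hi⟩ : ∃ i : ℤ, x₀ ^ i = y := by
            obtain ⟨i, hi⟩ := Subgroup.mem_zpowers_iff.mp (mem_zpowers_of_pow_eq_one hp.out.pos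
              (x := (⟨x₀, pow_mem hx _⟩ : X)) (y := ⟨y, hy⟩)
              (by rw [Subgroup.orderOf_mk, hx₀o]) (Subtype.ext hyp))
            exact ⟨i, congrArg Subtype.val hi⟩
          rw [← hi, ← conj_zpow, hx₀fix]
        intro y hy
        obtain ⟨m, hm⟩ := IsPGroup.iff_orderOf.mp S.isPGroup' ⟨y, hy⟩
        rw [Subgroup.orderOf_mk] at hm
        exact (mul_inv_eq_iff_eq_mul.mp
          (fixed_of_fixed_order hXc w (hWp w w.2) hΩ m y hy (hm ▸ pow_orderOf_eq_one y))).symm
      let f : X → X := fun y => ⟨(y : H) * ((w : H) * (y : H)⁻¹ * (w : H)⁻¹),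
        mul_mem y.2 (Subgroup.Normal.conj_mem hXn _ (inv_mem y.2) w)⟩
      have hf : Function.Surjective f := Finite.surjective_of_injective fun a b hab => by
        have h := congrArg Subtype.val hab
        simp only [f] at h
        have h2 : (w : H) * ((a : H)⁻¹ * b) * (w : H)⁻¹ = (a : H)⁻¹ * b := by
          have h3 := congrArg (fun t => (a : H)⁻¹ * t * ((w : H) * (b : H) * (w : H)⁻¹)) h
          simp only [← mul_assoc] at h3 ⊢
          group at h3 ⊢
          exact h3
        have := hfree _ (mul_mem (inv_mem a.2) b.2) h2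
        exact Subtype.ext (inv_mul_eq_one.mp this)
      have hterm : ∀ x : X, regInd p ((x : H) * (w : H)) * θ ((x : H) * (w : H)) = θ (w : H) := by
        intro x
        obtain ⟨y, hy⟩ := hf x
        have e : (x : H) * (w : H) = (y : H) * (w : H) * (y : H)⁻¹ := by
          rw [← hy]; simp [f, mul_assoc]
        rw [e, regInd_conj, Char.IsCharacter.isClassFunction hθ _ _, regInd, if_neg (hWp w w.2),
          one_mul]
      rw [Finset.sum_congr rfl (fun x _ => hterm x), Finset.sum_const, Finset.card_univ,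
        nsmul_eq_mul, Nat.card_eq_fintype_card]
  have hres := Char.IsCharacter.restrict hθ W
  obtain ⟨a, ha⟩ := exists_sum_subgroup_eq W hθ
  obtain ⟨b, hb⟩ := exists_sum_subgroup_eq W₁ hres
  have hsum2 : regSum p θ =
      (Nat.card X : ℂ) * ((Nat.card W : ℂ) * a) - ((Nat.card X : ℂ) - 1) * ((Nat.card W₁ : ℂ) * b) := by
    rw [← ha, ← hb, hsum, Finset.mul_sum, Finset.mul_sum,
      ← Finset.sum_subtype (Finset.univ.filter (fun w => w ∈ W₁)) (by simp)
        (fun w : W => ((Nat.card X : ℂ) - 1) * θ w), Finset.sum_filter, ← Finset.sum_sub_distrib]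
    refine Finset.sum_congr rfl fun w _ => ?_
    split_ifs <;> ring
  -- |W| divides (|X| - 1) |W₁|
  obtain ⟨t, ht⟩ : ∃ t : ℕ, (Nat.card X - 1) * Nat.card W₁ = Nat.card W * t := by
    let α := {x : X // x ≠ 1}
    let act : MulAction W α :=
      { smul := fun w x => ⟨⟨(w : H) * x.1 * (w : H)⁻¹, Subgroup.Normal.conj_mem hXn _ x.1.2 w⟩,
          fun h => x.2 (Subtype.ext (by
            have h' : (w : H) * x.1 * (w : H)⁻¹ = 1 := congrArg Subtype.val h
            simpa [mul_inv_eq_one] using h'))⟩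
        one_smul := fun x => Subtype.ext (Subtype.ext
          (show (1 : H) * x.1 * (1 : H)⁻¹ = x.1 by simp))
        mul_smul := fun u v x => Subtype.ext (Subtype.ext (show ((u : H) * v) * x.1 * ((u : H) * v)⁻¹ =
          (u : H) * ((v : H) * x.1 * (v : H)⁻¹) * (u : H)⁻¹ by group)) }
    have hstab : ∀ x : α, MulAction.stabilizer W x = W₁ := by
      intro x
      ext w
      have hiff : w • x = x ↔ (w : H) * x.1 * (w : H)⁻¹ = x.1 :=
        ⟨fun h => congrArg (fun z : α => (z.1 : H)) h, fun h => Subtype.ext (Subtype.ext h)⟩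
      rw [MulAction.mem_stabilizer_iff, hiff, hW₁, Subgroup.mem_subgroupOf, Subgroup.mem_centralizer_iff]
      refine ⟨fun h => ?_, fun h => mul_inv_eq_iff_eq_mul.mpr (h _ x.1.2).symm⟩
      intro y hy
      obtain ⟨m, hm⟩ := IsPGroup.iff_orderOf.mp S.isPGroup' ⟨y, hy⟩
      rw [Subgroup.orderOf_mk] at hm
      obtain ⟨n, hn⟩ := IsPGroup.iff_orderOf.mp S.isPGroup' x.1
      rw [← Subgroup.orderOf_coe] at hn
      rcases n with _ | n
      · exact absurd (Subtype.ext (orderOf_eq_one_iff.mp (by simpa using hn))) x.2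
      set x₀ := (x.1 : H) ^ p ^ n with hx₀
      have hx₀o : orderOf x₀ = p := by
        rw [hx₀, orderOf_pow' _ (pow_ne_zero _ hp.out.ne_zero), hn,
          Nat.gcd_eq_right (pow_dvd_pow _ (Nat.le_succ n)), pow_succ,
          Nat.mul_div_cancel_left _ (pow_pos hp.out.pos n)]
      have hΩ : ∀ z ∈ X, z ^ p = 1 → (w : H) * z * (w : H)⁻¹ = z := by
        intro z hz hzp
        obtain ⟨i, hi⟩ : ∃ i : ℤ, x₀ ^ i = z := by
          obtain ⟨i, hi⟩ := Subgroup.mem_zpowers_iff.mp (mem_zpowers_of_pow_eq_one hp.out.pos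
            (x := (⟨x₀, pow_mem x.1.2 _⟩ : X)) (y := ⟨z, hz⟩)
            (by rw [Subgroup.orderOf_mk, hx₀o]) (Subtype.ext hzp))
          exact ⟨i, congrArg Subtype.val hi⟩
        rw [← hi, ← conj_zpow, hx₀, ← conj_pow, h]
      exact (mul_inv_eq_iff_eq_mul.mp
        (fixed_of_fixed_order hXc w (hWp w w.2) hΩ m y hy (hm ▸ pow_orderOf_eq_one y))).symm
    refine ⟨Nat.card (Quotient (MulAction.orbitRel W α)), ?_⟩
    have hα : Nat.card α = Nat.card X - 1 := by
      rw [Nat.card_eq_fintype_card, Fintype.card_subtype_compl, Fintype.card_subtype_eq,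
        Nat.card_eq_fintype_card]
    have := Fintype.ofFinite (Quotient (MulAction.orbitRel W α))
    rw [← hα, Nat.card_congr (MulAction.selfEquivSigmaOrbitsQuotientStabilizer W α), Nat.card_sigma,
      Finset.sum_congr rfl (fun ω _ => show Nat.card (W ⧸ MulAction.stabilizer W ω.out) = W₁.index by
        rw [hstab]; rfl),
      Finset.sum_const, Finset.card_univ, smul_eq_mul, Nat.card_eq_fintype_card (α := Quotient _),
      mul_assoc, W₁.index_mul_card, mul_comm]
  refine ⟨(Nat.card W / q ^ (Nat.card H).factorization q : ℕ) *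
    ((Nat.card X : ℤ) * a - (t : ℤ) * b), ?_⟩
  have hdvd : q ^ (Nat.card H).factorization q ∣ Nat.card W := by
    refine Nat.Coprime.dvd_of_dvd_mul_left (k := q ^ (Nat.card H).factorization q) (m := Nat.card X) ?_ ?_
    · obtain ⟨n, hn⟩ := IsPGroup.iff_card.mp S.isPGroup'
      rw [hn]
      exact ((Nat.coprime_primes hq.out hp.out).mpr (Ne.symm hpq)).pow _ _
    · rw [show Nat.card X * Nat.card W = Nat.card H from hW.card_mul_card]
      exact Nat.ordProj_dvd _ _
  obtain ⟨d, hd⟩ := hdvd
  rw [hsum2]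
  conv_rhs => rw [hd, Nat.mul_div_cancel_left _ (pow_pos hq.out.pos _)]
  have ht' : ((Nat.card X : ℂ) - 1) * (Nat.card W₁ : ℂ) = (Nat.card W : ℂ) * t := by
    rw [← Nat.cast_one, ← Nat.cast_sub Nat.card_pos]
    exact_mod_cast ht
  have hd' : (Nat.card W : ℂ) = (q : ℂ) ^ (Nat.card H).factorization q * d := by exact_mod_cast hd
  push_cast
  linear_combination (-(b : ℂ)) * ht' + ((Nat.card X : ℂ) * a - (t : ℂ) * b) * hd'

variable [Fintype G]

theorem regSum_permChar (p : ℕ) (U : Subgroup G) [Fintype U] {f : G → ℂ} (hf : IsClassFunction G f) :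
    ∑ g, regInd p g * f g * (PermChar.pc U g : ℂ) = (U.index : ℂ) * regSum p (fun u : U => f u) := by
  classical
  simp only [← PermChar.indFun_one_eq, Cfsg.indFun, Finset.mul_sum]
  rw [Finset.sum_comm]
  have key : ∀ x : G, ∑ g, regInd p g * f g * ((Nat.card U : ℂ)⁻¹ *
      extendByZero U (fun _ => (1 : ℂ)) (x⁻¹ * g * x)) =
      (Nat.card U : ℂ)⁻¹ * regSum p (fun u : U => f u) := by
    intro x
    rw [← Equiv.sum_comp (MulAut.conj x).toEquiv]
    simp only [MulEquiv.toEquiv_eq_coe, EquivLike.coe_coe, MulAut.conj_apply, regInd_conj,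
      show ∀ g : G, f (x * g * x⁻¹) = f g from fun g => hf g x,
      show ∀ g : G, x⁻¹ * (x * g * x⁻¹) * x = g from fun g => by group]
    rw [regSum, Finset.mul_sum]
    refine (Finset.sum_subset (Finset.subset_univ (Finset.univ.map (Function.Embedding.subtype (· ∈ U))))
      (fun g _ hg => ?_)).symm.trans ?_
    · rw [extendByZero, Function.extend_apply']
      · simp
      · rintro ⟨u, rfl⟩; exact hg (Finset.mem_map_of_mem _ (Finset.mem_univ u))
    · rw [Finset.sum_map]
      refine Finset.sum_congr rfl fun u _ => ?_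
      simp only [Function.Embedding.coe_subtype, extendByZero, Subtype.val_injective.extend_apply,
        regInd_coe]
      ring
  rw [Finset.sum_congr rfl (fun x _ => key x), Finset.sum_const, Finset.card_univ, nsmul_eq_mul,
    ← Nat.card_eq_fintype_card, ← U.index_mul_card, Nat.cast_mul]
  have : (Nat.card U : ℂ) ≠ 0 := by exact_mod_cast Nat.card_pos.ne'
  field_simp

theorem regSum_mul_eq {p q : ℕ} [hp : Fact p.Prime] [hq : Fact q.Prime] (hpq : p ≠ q) {χ : G → ℂ}
    (hχ : IsCharacter G χ) :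
    ∃ m z : ℤ, ¬ (q : ℤ) ∣ m ∧
      (m : ℂ) * regSum p χ = (q : ℂ) ^ (Nat.card G).factorization q * (z : ℂ) := by
  classical
  have := Fintype.ofFinite (Subgroup G)
  obtain ⟨m, hm, a, ha, hma⟩ := PermChar.solomon (G := G) hq.out
  have hU : ∀ U : Subgroup G, ∃ z : ℤ, (a U : ℂ) * ((U.index : ℂ) * regSum p (fun u : U => χ u)) =
      (q : ℂ) ^ (Nat.card G).factorization q * (z : ℂ) := by
    intro U
    by_cases haU : a U = 0
    · exact ⟨0, by simp [haU]⟩
    obtain ⟨C, hCU, hN, hcyc, -, k, hk⟩ := ha U haU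
    have : (C.subgroupOf U).Normal := Subgroup.normal_subgroupOf_of_le_normalizer hN
    obtain ⟨z, hz⟩ := regSum_quasiElementary (p := p) (q := q) hpq
      (C := C.subgroupOf U) (isCyclic_of_injective (Subgroup.subgroupOfEquivOfLe hCU).toMonoidHom
        (MulEquiv.injective _)) (k := k) hk (Char.IsCharacter.restrict hχ U)
    refine ⟨a U * ((U.index / q ^ U.index.factorization q : ℕ) : ℤ) * z, ?_⟩
    rw [hz]
    have h1 : (U.index : ℂ) = (q : ℂ) ^ U.index.factorization q *
        ((U.index / q ^ U.index.factorization q : ℕ) : ℂ) := by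
      exact_mod_cast (Nat.ordProj_mul_ordCompl_eq_self U.index q).symm
    have h2 : (Nat.card G).factorization q =
        U.index.factorization q + (Nat.card U).factorization q := by
      rw [← U.index_mul_card, Nat.factorization_mul U.index_ne_zero_of_finite Nat.card_pos.ne',
        Finsupp.add_apply]
    rw [h2, pow_add]
    simp only [Int.cast_mul, Int.cast_natCast]
    linear_combination ((a U : ℂ) * (q : ℂ) ^ (Nat.card U).factorization q * (z : ℂ)) * h1
  choose z hz using hU
  refine ⟨m, ∑ U, z U, hm, ?_⟩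
  push_cast
  rw [Finset.mul_sum, ← Finset.sum_congr rfl (fun U _ => hz U)]
  simp only [← regSum_permChar p _ (Char.IsCharacter.isClassFunction hχ), Finset.mul_sum]
  rw [Finset.sum_comm, regSum, Finset.mul_sum]
  refine Finset.sum_congr rfl fun g _ => ?_
  have h := congrArg (fun n : ℤ => (n : ℂ)) (congrFun hma g)
  simp only [Finset.sum_apply, Pi.smul_apply, smul_eq_mul, Int.cast_sum, Int.cast_mul] at h
  rw [h, Finset.sum_mul]
  exact Finset.sum_congr rfl fun U _ => by ring

theorem isIntegral_regSum (p : ℕ) {χ : G → ℂ} (hχ : IsCharacter G χ) :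
    IsIntegral ℤ (regSum p χ) := by
  refine IsIntegral.sum _ fun g _ => IsIntegral.mul ?_ (Char.IsCharacter.isIntegral hχ g)
  rw [regInd]
  split_ifs
  exacts [isIntegral_zero, isIntegral_one]

/-- The sum over the `p`-regular elements is an integer divisible by the `p'`-part of the order. -/
theorem regSum_eq_int {p : ℕ} [hp : Fact p.Prime] {χ : G → ℂ} (hχ : IsCharacter G χ) :
    ∃ n : ℤ, regSum p χ = ((Nat.card G / p ^ (Nat.card G).factorization p : ℕ) : ℂ) * (n : ℂ) := by
  obtain ⟨q, hqp, hq⟩ := Nat.exists_infinite_primes (p + 1)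
  have := Fact.mk hq
  have hpq : p ≠ q := by omega
  obtain ⟨m, z, hm, hmz⟩ := regSum_mul_eq hpq hχ
  have hm0 : m ≠ 0 := fun h => hm (h ▸ dvd_zero _)
  obtain ⟨s, hs⟩ : ∃ s : ℤ, regSum p χ = (s : ℂ) := by
    have e : regSum p χ = algebraMap ℚ ℂ ((((q : ℤ) ^ (Nat.card G).factorization q * z : ℤ) : ℚ) / m) := by
      simp only [map_div₀, map_intCast]
      rw [eq_div_iff (Int.cast_ne_zero.mpr hm0), mul_comm, hmz]
      push_cast; rfl
    have h1 := isIntegral_regSum p hχ
    rw [e, isIntegral_algebraMap_iff (algebraMap ℚ ℂ).injective] at h1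
    obtain ⟨s, hs⟩ := IsIntegrallyClosed.isIntegral_iff.mp h1
    exact ⟨s, by rw [e, ← hs]; simp⟩
  have hdiv : (Nat.card G / p ^ (Nat.card G).factorization p) ∣ s.natAbs := by
    rw [Nat.dvd_iff_prime_pow_dvd_dvd]
    intro r k hr hrk
    rcases Nat.eq_zero_or_pos k with rfl | hk
    · simp
    have hrp : r ≠ p := by
      rintro rfl
      exact Nat.not_dvd_ordCompl hp.out Nat.card_pos.ne' ((dvd_pow_self _ hk.ne').trans hrk)
    have := Fact.mk hr
    obtain ⟨m', z', hm', hmz'⟩ := regSum_mul_eq (q := r) (Ne.symm hrp) hχ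
    rw [hs] at hmz'
    have h1 : (r : ℤ) ^ (Nat.card G).factorization r ∣ m' * s := ⟨z', by exact_mod_cast hmz'⟩
    have h2 : (r : ℤ) ^ (Nat.card G).factorization r ∣ s := by
      refine (IsCoprime.pow_left ?_).dvd_of_dvd_mul_left h1
      exact (Nat.prime_iff_prime_int.mp hr).coprime_iff_not_dvd.mpr hm'
    have h3 : k ≤ (Nat.card G).factorization r :=
      (hr.pow_dvd_iff_le_factorization Nat.card_pos.ne').mp (hrk.trans (Nat.ordCompl_dvd _ _))
    rw [← Int.natCast_dvd_natCast, Int.dvd_natAbs, Nat.cast_pow]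
    exact (pow_dvd_pow _ h3).trans h2
  obtain ⟨c, hc⟩ := hdiv
  have : ((Nat.card G / p ^ (Nat.card G).factorization p : ℕ) : ℤ) ∣ s := by
    rw [← Int.dvd_natAbs, hc]; exact ⟨c, by push_cast; rfl⟩
  obtain ⟨n, hn⟩ := this
  exact ⟨n, by rw [hs, hn]; push_cast; rfl⟩

omit [Fintype G] in
/-- The number of `p`-regular elements is prime to `p`. -/
theorem card_regular_not_dvd (p : ℕ) [hp : Fact p.Prime] :
    ¬ p ∣ Nat.card {g : G // ¬ p ∣ orderOf g} := by
  classical
  let P : Sylow p G := default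
  let α := {g : G // ¬ p ∣ orderOf g}
  let act : MulAction (P : Subgroup G) α :=
    { smul := fun c g => ⟨(c : G) * g.1 * (c : G)⁻¹, by
        rw [show (c : G) * g.1 * (c : G)⁻¹ = MulAut.conj (c : G) g.1 from rfl, MulEquiv.orderOf_eq]
        exact g.2⟩
      one_smul := fun g => Subtype.ext (show (1 : G) * g.1 * (1 : G)⁻¹ = g.1 by simp)
      mul_smul := fun a b g => Subtype.ext (show ((a : G) * b) * g.1 * ((a : G) * b)⁻¹ =
        (a : G) * ((b : G) * g.1 * (b : G)⁻¹) * (a : G)⁻¹ by group) }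
  intro hd
  have hmod := P.isPGroup'.card_modEq_card_fixedPoints α
  set C := Subgroup.centralizer ((P : Subgroup G) : Set G) with hC
  set Z := (P : Subgroup G).subgroupOf C with hZ
  have hfix : Nat.card (MulAction.fixedPoints (P : Subgroup G) α) =
      Nat.card {c : C // ¬ p ∣ orderOf c} := by
    refine Nat.card_congr
      { toFun := fun g => ⟨⟨g.1.1, ?_⟩, by rw [Subgroup.orderOf_mk]; exact g.1.2⟩
        invFun := fun c => ⟨⟨c.1.1, by rw [Subgroup.orderOf_coe]; exact c.2⟩, ?_⟩
        left_inv := fun g => rfl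
        right_inv := fun c => rfl }
    · rw [Subgroup.mem_centralizer_iff]
      intro u hu
      exact mul_inv_eq_iff_eq_mul.mp (congrArg Subtype.val (g.2 ⟨u, hu⟩))
    · intro u
      exact Subtype.ext (mul_inv_eq_iff_eq_mul.mpr (Subgroup.mem_centralizer_iff.mp c.1.2 u u.2))
  have hZc : ∀ z : C, z ∈ Z → ∀ c : C, Commute z c := fun z hz c =>
    Subtype.ext (Subgroup.mem_centralizer_iff.mp c.2 _ hz)
  have : Z.Normal := ⟨fun z hz c => by rw [← (hZc z hz c).eq, mul_inv_cancel_right]; exact hz⟩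
  have hall : ∀ c : C, (∃ n, orderOf c = p ^ n) → c ∈ Z := by
    rintro c ⟨n, hn⟩
    have hcp : IsPGroup p (Subgroup.zpowers (c : G)) :=
      IsPGroup.of_card (n := n) (by rw [Nat.card_zpowers, Subgroup.orderOf_coe, hn])
    have hnorm : Subgroup.zpowers (c : G) ≤ Subgroup.normalizer ((P : Subgroup G) : Set G) := by
      rw [Subgroup.zpowers_le, Subgroup.mem_normalizer_iff]
      intro y
      have hc := Subgroup.mem_centralizer_iff.mp c.2
      refine ⟨fun hy => by rwa [← hc y hy, mul_inv_cancel_right], fun hy => ?_⟩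
      have h2 := hc _ hy
      simp only [inv_mul_cancel_right] at h2
      have : y = (c : G) * y * (c : G)⁻¹ := mul_left_cancel h2
      rwa [this]
    have hsup : IsPGroup p ↥((P : Subgroup G) ⊔ Subgroup.zpowers (c : G)) :=
      P.isPGroup'.to_sup_of_normal_left' hcp hnorm
    have := P.is_maximal' hsup le_sup_left
    exact this.le (le_sup_right (a := (P : Subgroup G)) (Subgroup.mem_zpowers _))
  have hidx : ¬ p ∣ Z.index := by
    let S : Sylow p C := default
    have hle : (S : Subgroup C) ≤ Z := fun s hs => hall s (by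
      obtain ⟨n, hn⟩ := IsPGroup.iff_orderOf.mp S.isPGroup' ⟨s, hs⟩
      exact ⟨n, by rwa [Subgroup.orderOf_mk] at hn⟩)
    exact fun h => S.not_dvd_index (h.trans (Subgroup.index_dvd_of_le hle))
  obtain ⟨j, hj⟩ := IsPGroup.iff_card.mp (P.isPGroup'.comap_subtype (H := (P : Subgroup G)) (K := C))
  obtain ⟨H, hH⟩ := Subgroup.exists_right_complement'_of_coprime (N := Z) (by
    rw [show Nat.card Z = p ^ j from hj]; exact Nat.Coprime.pow_left j (hp.out.coprime_iff_not_dvd.mpr hidx))
  have hHreg : ∀ h ∈ H, ¬ p ∣ orderOf h := fun h hh hd' => hidx (by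
    rw [hH.symm.index_eq_card]
    exact hd'.trans (Subgroup.orderOf_dvd_natCard _ hh))
  have hreg : ∀ c : C, ¬ p ∣ orderOf c → c ∈ H := by
    intro c hc
    obtain ⟨⟨z, h⟩, hzh⟩ := hH.2 c
    have hz1 : (z : C) = 1 := by
      have hzo : orderOf (z : C) ∣ p ^ j := by
        rw [← hj]; exact Subgroup.orderOf_dvd_natCard _ z.2
      obtain ⟨i, -, hi⟩ := (Nat.dvd_prime_pow hp.out).mp hzo
      rcases Nat.eq_zero_or_pos i with rfl | hipos
      · exact orderOf_eq_one_iff.mp (by simpa using hi)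
      exfalso
      apply hc
      rw [← hzh, (hZc _ z.2 _).orderOf_mul_eq_mul_orderOf_of_coprime (by
        rw [hi]; exact Nat.Coprime.pow_left i (hp.out.coprime_iff_not_dvd.mpr (hHreg _ h.2))), hi]
      exact Dvd.dvd.mul_right (dvd_pow_self p hipos.ne') _
    rw [← hzh]; simp only [hz1, one_mul]; exact h.2
  have hcard : Nat.card {c : C // ¬ p ∣ orderOf c} = Z.index := by
    rw [hH.symm.index_eq_card]
    exact Nat.card_congr (Equiv.subtypeEquivRight fun c => ⟨hreg c, hHreg c⟩)
  rw [hfix, hcard] at hmod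
  exact hidx (Nat.modEq_zero_iff_dvd.mp (hmod.symm.trans (Nat.modEq_zero_iff_dvd.mpr hd)))

theorem regSum_one (p : ℕ) :
    regSum p (fun _ : G => (1 : ℂ)) = (Nat.card {g : G // ¬ p ∣ orderOf g} : ℂ) := by
  classical
  simp only [regSum, regInd, mul_one]
  rw [Finset.sum_ite, Finset.sum_const_zero, zero_add, Finset.sum_const, nsmul_eq_mul, mul_one,
    Nat.card_eq_fintype_card, Fintype.card_subtype]

/-- Members of the principal block have nonzero regular sum. -/
theorem regSum_ne_zero_of_principal {p : ℕ} [Fact p.Prime] {M : Ideal AlgInt} (hM : IsPModular p M)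
    {χ : IrrCharacter G} (hχ : χ ∈ principalBlock M G) : regSum p (χ : G → ℂ) ≠ 0 := by
  classical
  intro h0
  have := Fintype.ofFinite (ConjClasses G)
  have hz : IsClassFunction G (regInd p : G → ℂ) := fun g h => regInd_conj p g h
  have e : ∀ ψ : IrrCharacter G, regSum p (ψ : G → ℂ) / (ψ : G → ℂ) 1 =
      ∑ C : ConjClasses G, regInd p C.out * centralChar (ψ : G → ℂ) C.out := fun ψ => by
    rw [← Blocks.omega_eq_sum_classes hz, Blocks.omega_eq_sum]; rfl
  let one : IrrCharacter G := ⟨fun _ => 1, Char.isIrrCharacter_one⟩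
  have hI : MemLocalIdeal M (regSum p (one : G → ℂ) / (one : G → ℂ) 1 -
      regSum p (χ : G → ℂ) / (χ : G → ℂ) 1) := by
    rw [e, e, ← Finset.sum_sub_distrib]
    refine Blocks.memI_sum hM _ fun C _ => ?_
    rw [← mul_sub]
    refine Blocks.memI_mul_left hM ?_ (hχ C.out)
    rw [regInd]
    split_ifs
    exacts [Blocks.memR_zero hM, Blocks.memR_one hM]
  simp only [one, h0, zero_div, sub_zero, div_one, regSum_one] at hI
  exact card_regular_not_dvd p ((Blocks.memI_natCast hM).mp hI)

/-- If every irreducible character has nonzero regular sum, there are at most `p ^ (2 * a)`. -/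
theorem card_le_of_all_ne_zero {p : ℕ} [hp : Fact p.Prime]
    (h : ∀ χ : IrrCharacter G, regSum p (χ : G → ℂ) ≠ 0) :
    Nat.card (IrrCharacter G) ≤ p ^ (2 * (Nat.card G).factorization p) := by
  classical
  have := Fintype.ofFinite (IrrCharacter G)
  choose n hn using fun χ : IrrCharacter G =>
    regSum_eq_int (p := p) (Char.IsIrrCharacter.isCharacter χ.2)
  set m := Nat.card G / p ^ (Nat.card G).factorization p with hm
  have hz : IsClassFunction G (regInd p : G → ℂ) := fun g x => regInd_conj p g x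
  have hinner : ∀ χ : IrrCharacter G, classInner (regInd p) (χ : G → ℂ) =
      (Nat.card G : ℂ)⁻¹ * ((m : ℂ) * (n χ : ℂ)) := by
    intro χ
    rw [← hn, classInner]
    congr 1
    have : (starRingEnd ℂ) (regSum p (χ : G → ℂ)) = regSum p (χ : G → ℂ) := by
      rw [hn, map_mul, map_natCast, map_intCast]
    rw [← this, regSum, map_sum]
    refine Finset.sum_congr rfl fun g _ => ?_
    rw [map_mul]
    simp only [regInd]
    split_ifs <;> simp
  have h1 := Char.classInner_eq_sum hz (regInd p : G → ℂ)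
  have h2 : classInner (regInd p : G → ℂ) (regInd p) =
      (Nat.card G : ℂ)⁻¹ * (Nat.card {g : G // ¬ p ∣ orderOf g} : ℂ) := by
    rw [classInner, ← regSum_one, regSum]
    congr 1
    refine Finset.sum_congr rfl fun g _ => ?_
    simp only [regInd]
    split_ifs <;> simp
  simp only [h2, hinner, map_mul, map_inv₀, map_natCast, map_intCast] at h1
  have hG : (Nat.card G : ℂ) ≠ 0 := by exact_mod_cast Nat.card_pos.ne'
  have key : (m : ℤ) ^ 2 * ∑ χ, n χ ^ 2 =
      (Nat.card {g : G // ¬ p ∣ orderOf g} : ℤ) * (Nat.card G : ℤ) := by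
    have : (m : ℂ) ^ 2 * ∑ χ, (n χ : ℂ) ^ 2 =
        (Nat.card {g : G // ¬ p ∣ orderOf g} : ℂ) * (Nat.card G : ℂ) := by
      calc _ = (Nat.card G : ℂ) ^ 2 * ∑ χ : IrrCharacter G,
            (Nat.card G : ℂ)⁻¹ * ((m : ℂ) * (n χ : ℂ)) * ((Nat.card G : ℂ)⁻¹ * ((m : ℂ) * (n χ : ℂ))) := by
            rw [Finset.mul_sum, Finset.mul_sum]
            exact Finset.sum_congr rfl fun χ _ => by field_simp
        _ = _ := by rw [← h1]; field_simp
    exact_mod_cast this
  have hG' : (Nat.card G : ℤ) = (p : ℤ) ^ (Nat.card G).factorization p * m := by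
    exact_mod_cast (Nat.ordProj_mul_ordCompl_eq_self (Nat.card G) p).symm
  have hle : (Nat.card {g : G // ¬ p ∣ orderOf g} : ℤ) ≤ (Nat.card G : ℤ) :=
    Int.ofNat_le.mpr (Finite.card_subtype_le _)
  have hsum : ((Nat.card (IrrCharacter G)) : ℤ) ≤ ∑ χ, n χ ^ 2 := by
    rw [Nat.card_eq_fintype_card, ← Finset.card_univ, Finset.card_eq_sum_ones]
    push_cast
    refine Finset.sum_le_sum fun χ _ => ?_
    have : n χ ≠ 0 := fun h0 => h χ (by rw [hn χ, h0]; simp)
    nlinarith [Int.one_le_abs this, sq_abs (n χ)]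
  have hm0 : (0 : ℤ) < m := by
    exact_mod_cast Nat.ordCompl_pos p Nat.card_pos.ne'
  have h3 : (m : ℤ) ^ 2 * ∑ χ, n χ ^ 2 ≤ (m : ℤ) ^ 2 * (p : ℤ) ^ (2 * (Nat.card G).factorization p) := by
    rw [key, pow_mul']
    calc _ ≤ (Nat.card G : ℤ) * (Nat.card G : ℤ) := mul_le_mul_of_nonneg_right hle (by positivity)
      _ = _ := by rw [hG']; ring
  have h4 := le_of_mul_le_mul_left h3 (by positivity)
  exact_mod_cast hsum.trans h4

end Cfsg.Agent.ClassCount
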